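import Cfsg.Agent.H82.NineBasic
import Cfsg.Agent.H39.ElemPSL
import Cfsg.Agent.Linear.TwoClasses
import Cfsg.Agent.Linear.Order
import Cfsg.Agent.Linear.Simple
import Cfsg.Agent.S4487
import Cfsg.Agent.S0944
import Mathlib.GroupTheory.CommutingProbability

/-!
# An abelian Sylow 2-subgroup which is the centralizer of each of its nontrivial elements
-/

set_option autoImplicit false
set_option linter.unusedSectionVars false
set_option linter.style.haveILetI false

open scoped ComplexConjugate

namespace Cfsg.Agent.H82.FreePoint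

open CharBasic BlockBasic

universe u

variable {G : Type u} [Group G] [Finite G]

/-- The sum of a character over a subgroup is a natural multiple of the order. -/
theorem exists_sum_subgroup (K : Subgroup G) [Fintype K] (χ : IrrCharacter G) :
    ∃ N : ℕ, ∑ c : K, (χ : G → ℂ) c = (Nat.card K : ℂ) * N := by
  cases nonempty_fintype G
  have h := H83.mult_spec χ (trivialIrr : IrrCharacter K)
  refine ⟨H83.mult χ (trivialIrr : IrrCharacter K), ?_⟩
  rw [classInner_def] at h
  simp only [trivialIrr, map_one, mul_one] at h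
  simp only [trivialIrr]
  rw [← h, ← mul_assoc, mul_inv_cancel₀ (Nat.cast_ne_zero.2 Nat.card_pos.ne'), one_mul]

/-- Values at an involution. -/
theorem exists_int (χ : IrrCharacter G) {a : G} (ha : orderOf a = 2) :
    ∃ s : ℤ, (χ : G → ℂ) a = (s : ℂ) :=
  (S0944.result χ a ha).imp fun _ h => h.1

section SelfCentral

variable {M : Ideal AlgInt} (hM : IsPModular 2 M) (Q : Sylow 2 G)
  [hab : IsMulCommutative (Q : Subgroup G)]
  (hC : ∀ a ∈ (Q : Subgroup G), a ≠ 1 → Subgroup.centralizer ({a} : Set G) = (Q : Subgroup G))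

include hC hM in
/-- With a normal Sylow subgroup and abelian quotient: the count of characters. -/
theorem normal_count [(Q : Subgroup G).Normal] (hne : (Q : Subgroup G) ≠ ⊥)
    (hcomm : ∀ a b : G, a * b * a⁻¹ * b⁻¹ ∈ (Q : Subgroup G)) :
    Nat.card (principalBlock M G) * (Q : Subgroup G).index =
      (Q : Subgroup G).index * (Q : Subgroup G).index + (Nat.card (Q : Subgroup G) - 1) := by
  classical
  cases nonempty_fintype G
  haveI : Fact (Nat.Prime 2) := ⟨Nat.prime_two⟩
  set T : Subgroup G := (Q : Subgroup G)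
  set q := Nat.card T
  set e := T.index
  have hqe : q * e = Nat.card G := T.card_mul_index
  obtain ⟨a, haT, ha1⟩ := (Subgroup.bot_or_exists_ne_one T).resolve_left hne
  have hcore : pPrimeCore 2 G = ⊥ := by
    refine (Subgroup.eq_bot_iff_forall _).2 fun k hk => ?_
    have hdisj : ∀ y ∈ T, y ∈ pPrimeCore 2 G → y = 1 := by
      intro y hy hyk
      obtain ⟨j, hj⟩ := H86.Abelian.exists_orderOf Q ⟨y, hy⟩
      refine H86.eq_one_of_pPow (p := 2) ⟨j, hj⟩ fun hd => ?_
      refine Cores.not_dvd_card_pPrimeCore (p := 2) (G := G) (hd.trans ?_)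
      rw [show orderOf y = orderOf (⟨y, hyk⟩ : pPrimeCore 2 G) from (Subgroup.orderOf_mk y hyk).symm]
      exact orderOf_dvd_natCard _
    have hka : k ∈ Subgroup.centralizer ({a} : Set G) := by
      refine Subgroup.mem_centralizer_singleton_iff.2 (mul_inv_eq_iff_eq_mul.1 (mul_inv_eq_one.1 ?_))
      refine hdisj _ (T.mul_mem (Subgroup.Normal.conj_mem ‹_› a haT k) (T.inv_mem haT)) ?_
      rw [show k * a * k⁻¹ * a⁻¹ = k * (a * k⁻¹ * a⁻¹) by group]
      exact mul_mem hk (Subgroup.Normal.conj_mem inferInstance _ (inv_mem hk) a)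
    rw [hC a haT ha1] at hka
    exact hdisj k hka hk
  have hTcore : T ≤ pCore 2 G := Cores.le_pCore Q.isPGroup'
  have hconstr : Subgroup.centralizer ((pCore 2 G : Subgroup G) : Set G) ≤ pCore 2 G := by
    refine le_trans ?_ hTcore
    rw [← hC a haT ha1]
    exact Subgroup.centralizer_le (Set.singleton_subset_iff.2 (hTcore haT))
  have hk : Nat.card (principalBlock M G) = Nat.card (ConjClasses G) := by
    rw [← card_irrCharacter]
    exact Nat.card_congr (Equiv.subtypeUnivEquiv fun χ =>
      S4487.result 2 M hM hcore hconstr trivialIrr χ)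
  have hout : ∀ g : G, g ∉ T → Nat.card (Subgroup.centralizer ({g} : Set G)) = e := by
    intro g hg
    refine le_antisymm ?_ ?_
    · have hinj : Function.Injective fun c : Subgroup.centralizer ({g} : Set G) =>
          (QuotientGroup.mk (c : G) : G ⧸ T) := by
        intro c d h
        by_contra hne'
        have hy : (c : G)⁻¹ * d ∈ T := QuotientGroup.eq.1 h
        have hy1 : (c : G)⁻¹ * d ≠ 1 := fun e => hne' (Subtype.ext (inv_mul_eq_one.1 e))
        refine hg (hC _ hy hy1 ▸ Subgroup.mem_centralizer_singleton_iff.2 ?_)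
        exact (Subgroup.mem_centralizer_singleton_iff.1
          (mul_mem (inv_mem c.2) d.2 : (c : G)⁻¹ * d ∈ Subgroup.centralizer ({g} : Set G))).symm
      exact (Nat.card_le_card_of_injective _ hinj).trans_eq (Subgroup.index_eq_card T).symm
    · have hle : (Subgroup.centralizer ({g} : Set G)).index ≤ q := by
        rw [← card_conjugates_eq_index g]
        refine Nat.card_le_card_of_injective (fun y => (⟨g⁻¹ * y.1, ?_⟩ : T))
          fun y z h => Subtype.ext (mul_left_cancel (congrArg Subtype.val h))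
        obtain ⟨c, hc⟩ := isConj_iff.1 (show IsConj g y.1 from y.2)
        rw [← hc, show g⁻¹ * (c * g * c⁻¹) = g⁻¹ * c * g⁻¹⁻¹ * c⁻¹ by group]
        exact hcomm g⁻¹ c
      have h := (Subgroup.centralizer ({g} : Set G)).card_mul_index
      have h2 : q * e ≤ Nat.card (Subgroup.centralizer ({g} : Set G)) * q := by
        rw [hqe, ← h]; exact Nat.mul_le_mul_left _ hle
      exact Nat.le_of_mul_le_mul_left (by linarith [h2] : q * e ≤
        q * Nat.card (Subgroup.centralizer ({g} : Set G))) Nat.card_pos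
  have hsum : Nat.card (ConjClasses G) * Nat.card G =
      ∑ g : G, Nat.card (Subgroup.centralizer ({g} : Set G)) := by
    rw [← card_comm_eq_card_conjClasses_mul_card, ← Nat.card_sigma]
    exact Nat.card_congr
      { toFun := fun p => ⟨p.1.1, p.1.2, Subgroup.mem_centralizer_singleton_iff.2 p.2.eq.symm⟩
        invFun := fun s => ⟨(s.1, s.2.1), (Subgroup.mem_centralizer_singleton_iff.1 s.2.2).symm⟩
        left_inv := fun p => rfl
        right_inv := fun s => rfl }
  have hqpos : 0 < q := Nat.card_pos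
  have key : (∑ g : G, Nat.card (Subgroup.centralizer ({g} : Set G))) + e * q =
      q * e + (q - 1) * q + Nat.card G * e := by
    have hterm : ∀ g : G, Nat.card (Subgroup.centralizer ({g} : Set G)) + (if g ∈ T then e else 0) =
        (if g = 1 then q * e else 0) + (if g ∈ T ∧ g ≠ 1 then q else 0) + e := by
      intro g
      by_cases h1 : g = 1
      · subst h1
        rw [if_pos (one_mem _), if_pos rfl, if_neg (fun h => h.2 rfl), hqe,
          show Subgroup.centralizer ({(1 : G)} : Set G) = ⊤ by
            ext; simp [Subgroup.mem_centralizer_singleton_iff], Subgroup.card_top]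
        omega
      · by_cases hg : g ∈ T
        · rw [if_pos hg, if_neg h1, if_pos ⟨hg, h1⟩, hC g hg h1]; omega
        · rw [if_neg hg, if_neg h1, if_neg fun h => hg h.1, hout g hg]; omega
    have h := Finset.sum_congr rfl fun g (_ : g ∈ (Finset.univ : Finset G)) => hterm g
    simp only [Finset.sum_add_distrib] at h
    rw [Finset.sum_ite_eq' Finset.univ (1 : G) (fun _ => q * e), if_pos (Finset.mem_univ _),
      ← Finset.sum_filter, ← Finset.sum_filter] at h
    simp only [Finset.sum_const, smul_eq_mul, Finset.card_univ, ← Nat.card_eq_fintype_card] at h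
    have c1 : (Finset.univ.filter fun g : G => g ∈ T).card = q := by
      rw [← Fintype.card_subtype, ← Nat.card_eq_fintype_card]
    have c2 : (Finset.univ.filter fun g : G => g ∈ T ∧ g ≠ 1).card = q - 1 := by
      rw [show (Finset.univ.filter fun g : G => g ∈ T ∧ g ≠ 1) =
        (Finset.univ.filter fun g : G => g ∈ T).erase 1 by ext; simp [and_comm],
        Finset.card_erase_of_mem (by simp), c1]
    rw [c1, c2] at h
    linarith [h]
  rw [hk]
  rw [← hsum, ← hqe] at key
  have h4 : (Nat.card (ConjClasses G) * e) * q + e * q = (e * e + (q - 1)) * q + e * q := by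
    linarith [key]
  exact Nat.eq_of_mul_eq_mul_right hqpos (Nat.add_right_cancel h4)

include hC hM in
/-- The members of the principal block are seen at every involution of the Sylow subgroup. -/
theorem mem_iff_ne_zero {a : G} (ha : a ∈ (Q : Subgroup G)) (ha1 : a ≠ 1) (χ : IrrCharacter G) :
    χ ∈ principalBlock M G ↔ (χ : G → ℂ) a ≠ 0 := by
  classical
  cases nonempty_fintype G
  haveI : Fact (Nat.Prime 2) := ⟨Nat.prime_two⟩
  have hfix : H86.Abelian.FreeFusion Q := fun n _ x hx hx1 h => by
    have : n ∈ (Q : Subgroup G) := hC x hx hx1 ▸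
      Subgroup.mem_centralizer_singleton_iff.2 (mul_inv_eq_iff_eq_mul.1 h)
    exact Subgroup.mem_centralizer_iff.2 fun y hy => H86.Abelian.mul_comm_sylow Q hy this
  have hn := H86.Abelian.pNilAt_of_mem Q hfix ha ha1
  obtain ⟨e, he⟩ := H86.Abelian.exists_orderOf Q ⟨a, ha⟩
  set C := Subgroup.centralizer ({a} : Set G)
  haveI : Fintype C := Fintype.ofFinite _
  have hreg : ∀ c : C, ¬ 2 ∣ orderOf c → c = 1 := by
    intro c hc
    obtain ⟨j, hj⟩ := H86.Abelian.exists_orderOf Q ⟨c, hC a ha ha1 ▸ c.2⟩
    exact Subtype.ext (H86.eq_one_of_pPow (p := 2) ⟨j, hj⟩ (by rwa [Subgroup.orderOf_coe]))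
  constructor
  · intro hχ h0
    obtain ⟨c, hc, hne⟩ := Nine.exists_apply_mul_ne_zero hM he (Nine.factorization_centralizer Q ha) hχ
    rw [H86.principal_apply_mul hM ⟨e, he⟩ hn hχ hc, h0] at hne
    exact hne rfl
  · intro h
    by_contra hχ
    have hs := H86.sum_shift_regular hM ⟨e, he⟩ hn χ
    rw [if_neg hχ, mul_zero, Finset.sum_eq_single (1 : C)] at hs
    · rw [if_neg (by rw [orderOf_one]; norm_num), OneMemClass.coe_one, mul_one] at hs
      exact h hs
    · intro c _ hc
      rw [if_pos (not_not.1 fun hd => hc (hreg c hd))]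
    · exact fun h' => absurd (Finset.mem_univ _) h'

include hC hM in
/-- Without normality there are as many principal characters as elements of the Sylow subgroup. -/
theorem nonnormal_count (hel : ∀ x ∈ (Q : Subgroup G), x ^ 2 = 1)
    (hq : Nat.card (Q : Subgroup G) = 8 ∨ Nat.card (Q : Subgroup G) = 16)
    (hnn : ¬ (Q : Subgroup G).Normal) :
    Nat.card (principalBlock M G) = Nat.card (Q : Subgroup G) := by
  classical
  cases nonempty_fintype G
  haveI : Fact (Nat.Prime 2) := ⟨Nat.prime_two⟩
  set q := Nat.card (Q : Subgroup G) with hqdef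
  have hq8 : 8 ≤ q := by omega
  have hEC : H39.ElemCentralizers G := by
    intro t ht
    obtain ⟨S, hS⟩ := (IsPGroup.of_card (G := Subgroup.zpowers t) (n := 1)
      (by rw [Nat.card_zpowers, ht, pow_one])).exists_le_sylow
    obtain ⟨g, hg⟩ := MulAction.exists_smul_eq G S Q
    set a := g * t * g⁻¹
    have haQ : a ∈ (Q : Subgroup G) := by
      rw [← hg]
      exact (Fusion.mem_sylow_smul).2 (by
        rw [show g⁻¹ * a * g = t by simp only [a]; group]; exact hS (Subgroup.mem_zpowers _))
    have ha1 : a ≠ 1 := fun e => by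
      rw [conj_eq_one_iff.1 e, orderOf_one] at ht; omega
    have hmem : ∀ c ∈ Subgroup.centralizer ({t} : Set G), g * c * g⁻¹ ∈ (Q : Subgroup G) := by
      intro c hc
      rw [← hC a haQ ha1]
      refine Subgroup.mem_centralizer_singleton_iff.2 ?_
      show g * c * g⁻¹ * (g * t * g⁻¹) = g * t * g⁻¹ * (g * c * g⁻¹)
      calc g * c * g⁻¹ * (g * t * g⁻¹) = g * (c * t) * g⁻¹ := by group
        _ = g * (t * c) * g⁻¹ := by rw [Subgroup.mem_centralizer_singleton_iff.1 hc]
        _ = _ := by group
    refine ⟨⟨⟨fun c d => Subtype.ext ?_⟩⟩, fun c hc => ?_⟩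
    · have h := H86.Abelian.mul_comm_sylow Q (hmem c c.2) (hmem d d.2)
      have h' : g * ((c : G) * d) * g⁻¹ = g * ((d : G) * c) * g⁻¹ := by
        calc g * ((c : G) * d) * g⁻¹ = g * c * g⁻¹ * (g * d * g⁻¹) := by group
          _ = g * d * g⁻¹ * (g * c * g⁻¹) := h
          _ = _ := by group
      simpa using h'
    · have h := hel _ (hmem c hc)
      rw [conj_pow] at h
      exact conj_eq_one_iff.1 h
  have hnc : ¬ IsCyclic (Q : Subgroup G) := fun hc => by
    have h := IsCyclic.exponent_eq_card (α := (Q : Subgroup G))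
    have h2 : Monoid.exponent (Q : Subgroup G) ∣ 2 :=
      Monoid.exponent_dvd_of_forall_pow_eq_one fun y => Subtype.ext (hel y y.2)
    rw [h] at h2
    have := Nat.le_of_dvd (by norm_num) h2
    omega
  obtain ⟨F, iF, iFt, hF, ⟨φ⟩⟩ := H39.ec_isPSL hEC hnc hnn
  rw [← hqdef] at hF
  have hev : Fintype.card F % 2 = 0 := by omega
  haveI hchar : CharP F 2 := ringChar.of_eq (FiniteField.even_card_iff_char_two.2 hev)
  have hgcd : Nat.gcd 2 (Fintype.card F - 1) = 1 := by
    rw [← Nat.coprime_iff_gcd_eq_one, Nat.Prime.coprime_iff_not_dvd Nat.prime_two]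
    omega
  have hZ : Subgroup.center (Matrix.SpecialLinearGroup (Fin 2) F) = ⊥ := by
    rw [← Subgroup.card_eq_one, Linear.card_center_SL, Fintype.card_fin, hgcd]
  have ψ : G ≃* Matrix.SpecialLinearGroup (Fin 2) F :=
    φ.trans ((QuotientGroup.quotientMulEquivOfEq hZ).trans QuotientGroup.quotientBot)
  have hcardG : Nat.card G = q * (q ^ 2 - 1) := by
    rw [Nat.card_congr ψ.toEquiv, Linear.card_SL_two, hF]
  have hclasses : Nat.card (IrrCharacter G) = q + 1 := by
    rw [card_irrCharacter, ← hF, ← Linear.card_conjClasses_char_two (F := F) CharTwo.two_eq_zero]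
    exact Nat.card_congr
      { toFun := ConjClasses.map ψ.toMonoidHom
        invFun := ConjClasses.map ψ.symm.toMonoidHom
        left_inv := fun C => by
          obtain ⟨g, rfl⟩ := C.exists_rep
          show ConjClasses.mk (ψ.symm (ψ g)) = _; rw [MulEquiv.symm_apply_apply]
        right_inv := fun C => by
          obtain ⟨g, rfl⟩ := C.exists_rep
          show ConjClasses.mk (ψ (ψ.symm g)) = _; rw [MulEquiv.apply_symm_apply] }
  obtain ⟨a, haQ, ha1⟩ := (Subgroup.bot_or_exists_ne_one (Q : Subgroup G)).resolve_left fun e => by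
    rw [hqdef, e, Subgroup.card_bot] at hq8; omega
  have hao : orderOf a = 2 := orderOf_eq_prime (hel a haQ) ha1
  choose s hs using fun χ : IrrCharacter G => exists_int χ hao
  let d : IrrCharacter G → ℤ := fun χ => (charDegree (χ : G → ℂ) : ℤ)
  have hd : ∀ χ : IrrCharacter G, (χ : G → ℂ) 1 = (d χ : ℂ) := fun χ => by
    rw [apply_one_eq_charDegree]; simp [d]
  -- all involutions are conjugate
  have hval : ∀ (χ : IrrCharacter G) (y : (Q : Subgroup G)), y ≠ 1 → (χ : G → ℂ) y = (s χ : ℂ) := by
    intro χ y hy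
    have hyo : orderOf (y : G) = 2 :=
      orderOf_eq_prime (hel y y.2) fun e => hy (Subtype.ext e)
    obtain ⟨c, hc⟩ := isConj_iff.1 (H39.se_involutions_conj
      (H39.ec_stronglyEmbedded hEC hnc hnn) hao hyo)
    rw [← hs χ, ← hc, IsIrr.isClassFunction χ.2]
  have hdvd : ∀ χ, ∃ N : ℕ, d χ + ((q : ℤ) - 1) * s χ = (q : ℤ) * N := by
    intro χ
    haveI := Fintype.ofFinite (Q : Subgroup G)
    obtain ⟨N, hN⟩ := exists_sum_subgroup (Q : Subgroup G) χ
    refine ⟨N, ?_⟩
    rw [← Finset.sum_erase_add _ _ (Finset.mem_univ (1 : (Q : Subgroup G))),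
      Finset.sum_congr rfl (g := fun _ => (s χ : ℂ)) fun y hy => hval χ y (Finset.ne_of_mem_erase hy),
      Finset.sum_const, Finset.card_erase_of_mem (Finset.mem_univ _), Finset.card_univ,
      ← Nat.card_eq_fintype_card, ← hqdef, OneMemClass.coe_one, hd, nsmul_eq_mul] at hN
    apply Int.cast_injective (α := ℂ)
    have h1 : 1 ≤ q := by omega
    push_cast [Nat.cast_sub h1] at hN ⊢
    linear_combination hN
  have hsum : ∑ χ : IrrCharacter G, (d χ - s χ) * (d χ - s χ) = (q : ℤ) ^ 3 := by
    apply Int.cast_injective (α := ℂ)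
    have e1 := sum_sq_degree (G := G)
    have e2 := second_orthogonality_self (G := G) a
    have e3 := sum_degree_mul_apply (G := G) a
    rw [if_neg ha1] at e3
    rw [hC a haQ ha1, ← hqdef] at e2
    simp only [hd, hs, map_intCast] at e1 e2 e3
    rw [hcardG] at e1
    have h1 : 1 ≤ q ^ 2 := Nat.one_le_pow _ _ (by omega)
    push_cast [Nat.cast_sub h1] at e1 ⊢
    calc ∑ χ : IrrCharacter G, ((d χ : ℂ) - (s χ : ℂ)) * ((d χ : ℂ) - (s χ : ℂ))
        = ∑ χ : IrrCharacter G, ((d χ : ℂ) ^ 2 - 2 * ((d χ : ℂ) * (s χ : ℂ)) +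
          (s χ : ℂ) * (s χ : ℂ)) := Finset.sum_congr rfl fun χ _ => by ring
      _ = (q : ℂ) ^ 3 := by
        rw [Finset.sum_add_distrib, Finset.sum_sub_distrib, ← Finset.mul_sum, e1, e2, e3]; ring
  have hs2 : ∑ χ : IrrCharacter G, s χ * s χ = (q : ℤ) := by
    apply Int.cast_injective (α := ℂ)
    have e2 := second_orthogonality_self (G := G) a
    rw [hC a haQ ha1, ← hqdef] at e2
    simp only [hs, map_intCast] at e2
    push_cast
    exact e2
  have hfaith : ∀ χ : IrrCharacter G, χ ≠ trivialIrr → d χ ≠ s χ := by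
    intro χ hχ heq
    obtain ⟨K, hKn, hK, -⟩ := IsChar.exists_kernel (IsIrr.isCharacter χ.2)
    haveI : Nontrivial (Fin 2) := inferInstance
    haveI : IsSimpleGroup (Matrix.ProjectiveSpecialLinearGroup (Fin 2) F) :=
      Linear.isSimpleGroup_PSL_fin le_rfl fun _ => by rw [Nat.card_eq_fintype_card]; omega
    haveI : IsSimpleGroup G := φ.isSimpleGroup
    rcases hKn.eq_bot_or_eq_top with h | h
    · have ha' : a ∈ K := (hK a).2 (by rw [hd χ, hs χ, heq])
      rw [h, Subgroup.mem_bot] at ha'
      exact ha1 ha'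
    · have hconst : ∀ g : G, (χ : G → ℂ) g = (d χ : ℂ) := fun g => by
        rw [← hd χ]; exact (hK g).1 (h ▸ Subgroup.mem_top g)
      refine hχ (Subtype.ext (funext fun g => ?_))
      by_contra hne
      have h0 := classInner_irr_of_ne χ.2 isIrrCharacter_one (fun e => hχ (Subtype.ext e))
      rw [classInner_def] at h0
      simp only [hconst, map_one, mul_one, Finset.sum_const, nsmul_eq_mul] at h0
      rw [Finset.card_univ, ← Nat.card_eq_fintype_card, ← mul_assoc,
        inv_mul_cancel₀ (Nat.cast_ne_zero.2 Nat.card_pos.ne'), one_mul, ← hd χ] at h0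
      exact IsIrr.one_ne_zero χ.2 h0
  choose N hN using hdvd
  let j : IrrCharacter G → ℤ := fun χ => (N χ : ℤ) - s χ
  have hj : ∀ χ, d χ - s χ = (q : ℤ) * j χ := fun χ => by
    simp only [j]; linear_combination hN χ
  have hqz : (q : ℤ) ≠ 0 := by omega
  have hjs : ∑ χ ∈ Finset.univ.erase (trivialIrr : IrrCharacter G), j χ * j χ = (q : ℤ) := by
    apply mul_left_cancel₀ (pow_ne_zero 2 hqz)
    rw [Finset.mul_sum]
    have htriv : d (trivialIrr : IrrCharacter G) - s (trivialIrr : IrrCharacter G) = 0 := by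
      have h1 := hd (trivialIrr : IrrCharacter G)
      have h2 := hs (trivialIrr : IrrCharacter G)
      rw [sub_eq_zero]
      exact Int.cast_injective (α := ℂ) (h1.symm.trans h2)
    rw [← pow_succ, ← hsum, ← Finset.sum_erase Finset.univ
      (f := fun χ => (d χ - s χ) * (d χ - s χ)) (a := (trivialIrr : IrrCharacter G)) (by rw [htriv]; rfl)]
    exact Finset.sum_congr rfl fun χ _ => by rw [hj χ]; ring
  have hone : ∀ χ ∈ Finset.univ.erase (trivialIrr : IrrCharacter G), j χ * j χ = 1 := by
    have hne : ∀ χ ∈ Finset.univ.erase (trivialIrr : IrrCharacter G), 1 ≤ j χ * j χ := by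
      intro χ hχ
      have h0 : j χ ≠ 0 := fun e => hfaith χ (Finset.ne_of_mem_erase hχ)
        (sub_eq_zero.1 (by rw [hj χ, e, mul_zero]))
      nlinarith [Int.one_le_abs h0, sq_abs (j χ), abs_nonneg (j χ)]
    intro χ hχ
    refine le_antisymm ?_ (hne χ hχ)
    by_contra hlt
    have h1 : ∑ χ ∈ Finset.univ.erase (trivialIrr : IrrCharacter G), (1 : ℤ) <
        ∑ χ ∈ Finset.univ.erase (trivialIrr : IrrCharacter G), j χ * j χ :=
      Finset.sum_lt_sum hne ⟨χ, hχ, by omega⟩
    rw [hjs, Finset.sum_const, Finset.card_erase_of_mem (Finset.mem_univ _), Finset.card_univ,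
      ← Nat.card_eq_fintype_card, hclasses, nsmul_eq_mul, mul_one] at h1
    omega
  have hssq : ∀ χ, s χ * s χ ≤ (q : ℤ) := fun χ => hs2 ▸
    Finset.single_le_sum (f := fun χ => s χ * s χ) (fun χ _ => mul_self_nonneg _) (Finset.mem_univ χ)
  have hunit : ∀ χ, s χ ≠ 0 → s χ * s χ = 1 := by
    intro χ hne
    by_cases hχ : χ = trivialIrr
    · subst hχ
      have h2 : ((s (trivialIrr : IrrCharacter G) : ℤ) : ℂ) = ((1 : ℤ) : ℂ) := by
        rw [← hs, Int.cast_one]; rfl
      rw [Int.cast_injective h2, one_mul]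
    · have hj1 := hone χ (Finset.mem_erase.2 ⟨hχ, Finset.mem_univ _⟩)
      have hdpos : 0 < d χ := by
        have := IsIrr.one_ne_zero χ.2
        rw [hd, Int.cast_ne_zero] at this
        have h0 : 0 ≤ d χ := Int.natCast_nonneg _
        omega
      have htriv1 : s (trivialIrr : IrrCharacter G) = 1 := by
        apply Int.cast_injective (α := ℂ)
        rw [← hs, Int.cast_one]; rfl
      have hlt : s χ * s χ + 1 ≤ (q : ℤ) := by
        have h := Finset.sum_le_sum_of_subset_of_nonneg
          (Finset.subset_univ ({χ, (trivialIrr : IrrCharacter G)} : Finset (IrrCharacter G)))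
          (f := fun χ => s χ * s χ) (fun χ _ _ => mul_self_nonneg _)
        rw [Finset.sum_pair hχ, hs2, htriv1, mul_one] at h
        exact h
      have hs3 : -3 ≤ s χ ∧ s χ ≤ 3 ∧ (q = 8 → -2 ≤ s χ ∧ s χ ≤ 2) := by
        refine ⟨?_, ?_, fun e => ?_⟩
        · rcases hq with e | e <;> rw [e] at hlt <;> push_cast at hlt <;> nlinarith
        · rcases hq with e | e <;> rw [e] at hlt <;> push_cast at hlt <;> nlinarith
        · rw [e] at hlt; push_cast at hlt; constructor <;> nlinarith
      have hj' : j χ = 1 := by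
        rcases mul_self_eq_one_iff.1 hj1 with e | e
        · exact e
        · exfalso
          have := hj χ
          rw [e] at this
          omega
      have hds : d χ = q + s χ := by have := hj χ; rw [hj', mul_one] at this; omega
      have hN1 : (N χ : ℤ) = 1 + s χ := by simp only [j] at hj'; omega
      obtain ⟨n, -, hn, hdiv, -⟩ := IsIrr.degree_dvd χ.2
      have hnd : (n : ℤ) = d χ := by
        apply Int.cast_injective (α := ℂ)
        rw [Int.cast_natCast, ← hn, hd]
      have hdiv' : (n : ℕ) ∣ q * (q ^ 2 - 1) := hcardG ▸ hdiv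
      obtain ⟨hl, hu, h8⟩ := hs3
      obtain h | h | h | h : s χ = -1 ∨ s χ = 1 ∨ s χ = 2 ∨ s χ = 3 := by omega
      · rw [h]; norm_num
      · rw [h]; norm_num
      all_goals
        exfalso
        rcases hq with e | e
      · obtain rfl : n = 10 := by omega
        rw [e] at hdiv'; norm_num at hdiv'
      · obtain rfl : n = 18 := by omega
        rw [e] at hdiv'; norm_num at hdiv'
      · have := h8 e; omega
      · obtain rfl : n = 19 := by omega
        rw [e] at hdiv'; norm_num at hdiv'
  have hind : ∀ χ : IrrCharacter G, s χ * s χ = if χ ∈ principalBlock M G then 1 else 0 := by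
    intro χ
    have h := mem_iff_ne_zero hM Q hC haQ ha1 χ
    rw [hs χ, Int.cast_ne_zero] at h
    by_cases hχ : χ ∈ principalBlock M G
    · rw [if_pos hχ, hunit χ (h.1 hχ)]
    · rw [if_neg hχ]
      rw [not_iff_not.2 h, not_not] at hχ
      rw [hχ, mul_zero]
  rw [Finset.sum_congr rfl fun χ _ => hind χ, Finset.sum_boole] at hs2
  have h := Int.natCast_inj.1 hs2
  rw [← h, Nat.card_eq_fintype_card, ← Fintype.card_subtype]

end SelfCentral

end Cfsg.Agent.H82.FreePoint
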