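import Cfsg.Agent.H82.FreePoint.Reduce
import Cfsg.Agent.H82.NineMain
import Cfsg.Agent.H86.AbelianExceptional
import Cfsg.Agent.H25.KleinDefect
import Cfsg.Agent.S4588
import Cfsg.Agent.S4646
import Cfsg.Agent.S4691

/-!
# The principal block when a point is fixed by the centralizer alone
-/

set_option autoImplicit false
set_option linter.unusedSectionVars false
set_option linter.style.haveILetI false
set_option maxHeartbeats 1000000

namespace Cfsg.Agent.H82.FreePoint

open CharBasic BlockBasic H29.AbTwo Subgroup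

universe u

variable {G : Type u} [Group G] [Finite G] {M : Ideal AlgInt}

/-- Free fusion in the form used for counting. -/
theorem free_bot {p : ℕ} {P : Sylow p G} (hfix : H86.Abelian.FreeFusion P) :
    ∀ n ∈ normalizer ((P : Subgroup G) : Set G), ∀ v ∈ (P : Subgroup G), v ∉ (⊥ : Subgroup G) →
      n * v = v * n → n ∈ centralizer ((P : Subgroup G) : Set G) :=
  fun n hn v hv hv1 h => hfix n hn v hv (fun e => hv1 (mem_bot.2 e)) (mul_inv_eq_iff_eq_mul.2 h)

theorem freeFusion_of_free {p : ℕ} {P : Sylow p G}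
    (h : ∀ n ∈ normalizer ((P : Subgroup G) : Set G), ∀ v ∈ (P : Subgroup G), v ∉ (⊥ : Subgroup G) →
      n * v = v * n → n ∈ centralizer ((P : Subgroup G) : Set G)) : H86.Abelian.FreeFusion P :=
  fun n hn v hv hv1 he => h n hn v hv (fun e => hv1 (mem_bot.1 e)) (mul_inv_eq_iff_eq_mul.1 he)

variable (P : Sylow 2 G) [IsMulCommutative (P : Subgroup G)]

theorem eInd_eq_relIndex :
    (centralizer ((P : Subgroup G) : Set G)).relIndex (normalizer ((P : Subgroup G) : Set G)) =
      eInd P := rfl

theorem not_two_dvd_relIndex :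
    ¬ 2 ∣ (centralizer ((P : Subgroup G) : Set G)).relIndex
      (normalizer ((P : Subgroup G) : Set G)) := by
  have h := odd_eInd (P := P)
  rw [Nat.odd_iff] at h
  show ¬ 2 ∣ eInd P
  omega

theorem centralizer_subgroupOf_normal :
    ((centralizer ((P : Subgroup G) : Set G)).subgroupOf
      (normalizer ((P : Subgroup G) : Set G))).Normal := by
  rw [← normalizerMonoidHom_ker]; infer_instance

/-- The conjugates of a point with trivial automorphisms. -/
theorem orbit_injective {a : G} (haP : a ∈ (P : Subgroup G)) (ha1 : a ≠ 1)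
    (hstab : ∀ n ∈ normalizer ((P : Subgroup G) : Set G), n * a = a * n →
      n ∈ centralizer ((P : Subgroup G) : Set G)) :
    ∃ f : (normalizer ((P : Subgroup G) : Set G)) ⧸ (centralizer ((P : Subgroup G) : Set G)).subgroupOf
      (normalizer ((P : Subgroup G) : Set G)) → {y : (P : Subgroup G) // y ≠ 1},
      Function.Injective f ∧ ∀ n : normalizer ((P : Subgroup G) : Set G),
        ((f (QuotientGroup.mk n)).1 : G) = (n : G) * a * (n : G)⁻¹ := by
  set N := normalizer ((P : Subgroup G) : Set G)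
  set C := centralizer ((P : Subgroup G) : Set G)
  refine ⟨fun q => Quotient.liftOn' q (fun n => ⟨⟨(n : G) * a * (n : G)⁻¹,
    (mem_normalizer_iff.1 n.2 a).1 haP⟩, fun e => ha1 (conj_eq_one_iff.1 (congrArg Subtype.val e))⟩)
    fun n n' h => ?_, fun q q' h => ?_, fun n => rfl⟩
  · rw [QuotientGroup.leftRel_apply, mem_subgroupOf] at h
    have hc := mem_centralizer_iff.1 h a haP
    push_cast at hc
    refine Subtype.ext (Subtype.ext ?_)
    show (n : G) * a * (n : G)⁻¹ = (n' : G) * a * (n' : G)⁻¹
    calc (n : G) * a * (n : G)⁻¹ = (n : G) * (a * ((n : G)⁻¹ * n')) * (n' : G)⁻¹ := by group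
      _ = (n : G) * ((n : G)⁻¹ * n' * a) * (n' : G)⁻¹ := by rw [hc]
      _ = _ := by group
  · induction q using Quotient.inductionOn'
    induction q' using Quotient.inductionOn'
    rename_i n n'
    have e : (n : G) * a * (n : G)⁻¹ = (n' : G) * a * (n' : G)⁻¹ :=
      congrArg (fun y : {y : (P : Subgroup G) // y ≠ 1} => ((y : (P : Subgroup G)) : G)) h
    refine Quotient.sound' (QuotientGroup.leftRel_apply.2 (mem_subgroupOf.2
      (hstab _ (n⁻¹ * n').2 (mul_inv_eq_iff_eq_mul.1 ?_))))
    push_cast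
    calc (n : G)⁻¹ * n' * a * ((n : G)⁻¹ * n')⁻¹ = (n : G)⁻¹ * ((n' : G) * a * (n' : G)⁻¹) * n := by group
      _ = a := by rw [← e]; group

theorem card_ne_one :
    Nat.card {y : (P : Subgroup G) // y ≠ 1} = Nat.card (P : Subgroup G) - 1 := by
  classical
  cases nonempty_fintype (P : Subgroup G)
  rw [Nat.card_eq_fintype_card, Nat.card_eq_fintype_card, Fintype.card_subtype_compl,
    Fintype.card_subtype_eq]

/-- The count in terms of the inertial index. -/
theorem count_eInd (hM : IsPModular 2 M) (Z : Subgroup G) (hZP : Z ≤ (P : Subgroup G))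
    (hfixZ : ∀ n ∈ normalizer ((P : Subgroup G) : Set G), ∀ z ∈ Z, n * z = z * n)
    (hfree : ∀ n ∈ normalizer ((P : Subgroup G) : Set G), ∀ v ∈ (P : Subgroup G), v ∉ Z →
      n * v = v * n → n ∈ centralizer ((P : Subgroup G) : Set G)) :
    Nat.card (principalBlock M G) * eInd P + Nat.card Z =
      Nat.card (P : Subgroup G) + Nat.card Z * eInd P * blockRank 2 (principalBlock M G) := by
  haveI : Fact (Nat.Prime 2) := ⟨Nat.prime_two⟩
  cases nonempty_fintype G
  have h := count P Z hZP hfixZ hfree hM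
  rw [← eInd_mul (P := P)] at h
  refine Nat.eq_of_mul_eq_mul_right (Nat.card_pos (α := centralizer ((P : Subgroup G) : Set G))) ?_
  linarith [h]

/-- The transitive case. -/
theorem card_transitive (hM : IsPModular 2 M) (hfix : H86.Abelian.FreeFusion P)
    (hq : Nat.card (P : Subgroup G) = 8 ∨ Nat.card (P : Subgroup G) = 16)
    (he : eInd P + 1 = Nat.card (P : Subgroup G)) :
    Nat.card (principalBlock M G) = Nat.card (P : Subgroup G) := by
  haveI : Fact (Nat.Prime 2) := ⟨Nat.prime_two⟩
  obtain ⟨v, hvP, hv1⟩ := ((P : Subgroup G).bot_or_exists_ne_one).resolve_left fun e => by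
    rw [e, Subgroup.card_bot] at hq; omega
  obtain ⟨j, hj, hj1⟩ := exists_pow_omega hvP hv1
  obtain ⟨f, hf, hfv⟩ := orbit_injective P hj.1 hj1 fun n hn h =>
    hfix n hn _ hj.1 hj1 (mul_inv_eq_iff_eq_mul.2 h)
  have hbij := (Nat.bijective_iff_injective_and_card f).2 ⟨hf, by
    rw [card_ne_one, ← index_eq_card]
    show eInd P = _
    omega⟩
  have hel : ∀ x ∈ (P : Subgroup G), x ^ 2 = 1 := by
    intro x hx
    by_cases hx1 : x = 1
    · rw [hx1, one_pow]
    obtain ⟨q, hq'⟩ := hbij.2 ⟨⟨x, hx⟩, fun e => hx1 (congrArg Subtype.val e)⟩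
    obtain ⟨n, rfl⟩ := QuotientGroup.mk_surjective q
    have h := hfv n
    rw [hq'] at h
    simp only at h
    rw [h, conj_pow, hj.2, mul_one, mul_inv_cancel]
  exact card_eq_transitive hfix hel hq hM he

/-- A Sylow subgroup of order four gives four principal characters. -/
theorem card_four {H : Type u} [Group H] [Finite H] (R : Sylow 2 H) (hM : IsPModular 2 M)
    (h : Nat.card (R : Subgroup H) = 4) : Nat.card (principalBlock M H) = 4 := by
  haveI : Fact (Nat.Prime 2) := ⟨Nat.prime_two⟩
  cases nonempty_fintype H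
  refine H25.KleinDefect.card_eq_four hM (isPBlock_principalBlock M) ?_
  rw [S4588.defect_principal hM]
  have h2 := R.card_eq_multiplicity
  rw [h, show (4 : ℕ) = 2 ^ 2 by norm_num] at h2
  exact (Nat.pow_right_injective le_rfl h2).symm

/-- The prime case with nontrivial fixed points. -/
theorem card_fixed (hM : IsPModular 2 M) (Z : Subgroup G) (hZP : Z ≤ (P : Subgroup G))
    (hfixZ : ∀ n ∈ normalizer ((P : Subgroup G) : Set G), ∀ z ∈ Z, n * z = z * n)
    (hfree : ∀ n ∈ normalizer ((P : Subgroup G) : Set G), ∀ v ∈ (P : Subgroup G), v ∉ Z →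
      n * v = v * n → n ∈ centralizer ((P : Subgroup G) : Set G))
    (h : Nat.card (P : Subgroup G) = 4 * Nat.card Z ∨
      Nat.card (P : Subgroup G) = 8 * Nat.card Z ∧ eInd P = 7) :
    Nat.card (principalBlock M G) = Nat.card (P : Subgroup G) := by
  haveI : Fact (Nat.Prime 2) := ⟨Nat.prime_two⟩
  cases nonempty_fintype G
  set D := centralizer (Z : Set G) with hD
  set N := normalizer ((P : Subgroup G) : Set G) with hN
  set C := centralizer ((P : Subgroup G) : Set G) with hC
  have hND : N ≤ D := fun n hn => mem_centralizer_iff.2 fun z hz => (hfixZ n hn z hz).symm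
  have hPD : (P : Subgroup G) ≤ D := le_normalizer.trans hND
  have hZD : Z ≤ D := hZP.trans hPD
  set Q := P.subtype hPD with hQdef
  have hmemQ : ∀ y : D, y ∈ (Q : Subgroup D) ↔ (y : G) ∈ (P : Subgroup G) := fun y => Iff.rfl
  haveI : IsMulCommutative (Q : Subgroup D) :=
    ⟨⟨fun a b => Subtype.ext (Subtype.ext (H86.Abelian.mul_comm_sylow P a.2 b.2))⟩⟩
  set Y := Z.subgroupOf D
  have hYc : Y ≤ center D := fun z hz => mem_center_iff.2 fun d =>
    Subtype.ext (mem_centralizer_iff.1 d.2 (z : G) hz).symm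
  haveI : Y.Normal := ⟨fun z hz d => by
    rwa [mem_center_iff.1 (hYc hz) d, mul_inv_cancel_right]⟩
  have hYQ : Y ≤ (Q : Subgroup D) := fun z hz => hZP hz
  have hNQ : normalizer ((Q : Subgroup D) : Set D) = N.subgroupOf D := by
    ext d
    rw [mem_subgroupOf]
    simp only [hN, Subgroup.mem_normalizer_iff, SetLike.mem_coe]
    constructor
    · intro hd y
      constructor
      · exact fun hy => (hd ⟨y, hPD hy⟩).1 hy
      · intro hy
        have hyD : y ∈ D := by
          have := mul_mem (mul_mem (inv_mem d.2) (hPD hy)) d.2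
          simpa [mul_assoc] using this
        exact (hd ⟨y, hyD⟩).2 hy
    · exact fun hd y => hd (y : G)
  have hCQ : centralizer ((Q : Subgroup D) : Set D) = C.subgroupOf D := by
    ext d
    rw [mem_subgroupOf]
    simp only [hC, mem_centralizer_iff, SetLike.mem_coe]
    constructor
    · exact fun hd y hy => congrArg Subtype.val (hd ⟨y, hPD hy⟩ hy)
    · exact fun hd y hy => Subtype.ext (hd (y : G) hy)
  have heQ : eInd Q = eInd P := by
    rw [eInd, hNQ, hCQ, relIndex_subgroupOf hND]; rfl
  have hQc : Nat.card (Q : Subgroup D) = Nat.card (P : Subgroup G) :=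
    Nat.card_congr (subgroupOfEquivOfLe hPD).toEquiv
  have hYcard : Nat.card Y = Nat.card Z := Nat.card_congr (subgroupOfEquivOfLe hZD).toEquiv
  have hfreeQ : ∀ n ∈ normalizer ((Q : Subgroup D) : Set D), ∀ v ∈ (Q : Subgroup D), v ∉ Y →
      n * v = v * n → n ∈ centralizer ((Q : Subgroup D) : Set D) := fun n hn v hv hvY he => by
    rw [hCQ]
    rw [hNQ] at hn
    exact hfree n hn v hv hvY (congrArg Subtype.val he)
  have h1 := count_eInd P hM Z hZP hfixZ hfree
  have h2 := count_eInd Q hM Y hYQ (fun n _ z hz => mem_center_iff.1 (hYc hz) n) hfreeQ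
  rw [blockRank_eq_fixed P Z hZP hfixZ hM, ← hD] at h1
  rw [heQ, hQc, hYcard] at h2
  have hk : Nat.card (principalBlock M G) = Nat.card (principalBlock M D) :=
    Nat.eq_of_mul_eq_mul_right (eInd_pos (P := P)) (Nat.add_right_cancel (h1.trans h2.symm))
  rw [hk, card_eq_mul Q Y hfreeQ hM hYc hYQ (not_two_dvd_relIndex Q), hYcard]
  set R := bar Q Y
  have hRc : Nat.card (R : Subgroup (D ⧸ Y)) * Nat.card Z = Nat.card (P : Subgroup G) := by
    rw [← hYcard, card_bar_mul, comap_bar Q Y hYQ, hQc]
  have hZpos : 0 < Nat.card Z := Nat.card_pos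
  rcases h with h | ⟨h, h7⟩
  · rw [h] at hRc ⊢
    have hR4 : Nat.card (R : Subgroup (D ⧸ Y)) = 4 := Nat.eq_of_mul_eq_mul_right hZpos hRc
    rw [card_four R hM hR4, mul_comm]
  · rw [h] at hRc ⊢
    have hR8 : Nat.card (R : Subgroup (D ⧸ Y)) = 8 := Nat.eq_of_mul_eq_mul_right hZpos hRc
    have heR : eInd R = eInd P := by
      rw [← heQ]
      show (centralizer _).relIndex (normalizer _) = (centralizer _).relIndex (normalizer _)
      rw [← normalizer_bar Q Y hYQ, ← centralizer_bar Q Y hYc hYQ (not_two_dvd_relIndex Q),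
        relIndex_comap, map_comap_eq_self_of_surjective (QuotientGroup.mk'_surjective Y)]
    rw [card_transitive R hM (freeFusion_of_free (free_bar Q Y hfreeQ hYc hYQ (not_two_dvd_relIndex Q)))
      (Or.inl hR8) (by rw [heR, h7, hR8]), hR8, mul_comm]

end Cfsg.Agent.H82.FreePoint
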