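import Cfsg.Agent.H82.NineBasic
import Cfsg.Agent.H80.Watanabe.Main
import Cfsg.Agent.H81.RankQuotient

/-!
# The principal block when the inertial group acts freely outside its fixed points
-/

set_option autoImplicit false
set_option linter.unusedSectionVars false
set_option linter.style.haveILetI false

namespace Cfsg.Agent.H82.FreePoint

open CharBasic BlockBasic H80.Watanabe

universe u

variable {p : ℕ} [hp : Fact p.Prime] {M : Ideal AlgInt}

section Count

variable {G : Type u} [Group G] [Fintype G] (P : Sylow p G)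
  [hab : IsMulCommutative (P : Subgroup G)] (Z : Subgroup G) (hZP : Z ≤ (P : Subgroup G))
  (hfixZ : ∀ n ∈ Subgroup.normalizer ((P : Subgroup G) : Set G), ∀ z ∈ Z, n * z = z * n)
  (hfree : ∀ n ∈ Subgroup.normalizer ((P : Subgroup G) : Set G), ∀ v ∈ (P : Subgroup G), v ∉ Z →
    n * v = v * n → n ∈ Subgroup.centralizer ((P : Subgroup G) : Set G))

include hfixZ in
/-- Adjoining fixed elements does not change the rank. -/
theorem pairRank_eq_sup (hM : IsPModular p M) (Q : Subgroup G) (hQ : Q ≤ Z) (hZP : Z ≤ (P : Subgroup G)) :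
    pairRank p M (P : Subgroup G)
      (principalBlock M (Subgroup.centralizer ((P : Subgroup G) : Set G))) Q =
    pairRank p M (P : Subgroup G)
      (principalBlock M (Subgroup.centralizer ((P : Subgroup G) : Set G))) Z := by
  induction Q using WellFoundedGT.induction with
  | _ Q ih =>
    rcases hQ.lt_or_eq with hlt | rfl
    · obtain ⟨w, hw, hwQ⟩ := SetLike.exists_of_lt hlt
      rw [(pairRank_pairCard_sup hM (S4681.result p M hM P).1
        (fun x hx y hy => congrArg Subtype.val (mul_comm' (⟨x, hx⟩ : (P : Subgroup G)) ⟨y, hy⟩))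
        _ Q (hQ.trans hZP) rfl w (hZP hw) fun t ht _ => by
          rw [hfixZ t ((Nine.stab_principal P).le ht) w hw, mul_inv_cancel_right]).1]
      refine ih _ ?_ (sup_le hQ (Subgroup.zpowers_le.2 hw))
      exact left_lt_sup.2 fun hle => hwQ (hle (Subgroup.mem_zpowers w))
    · rfl

include hfixZ hZP in
/-- The rank of the block is the rank below the fixed points. -/
theorem blockRank_eq_fixed (hM : IsPModular p M) :
    blockRank p (principalBlock M G) =
      blockRank p (principalBlock M (Subgroup.centralizer (Z : Set G))) := by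
  rw [← (bot_pair hM (S4681.result p M hM P).1).1, pairRank_eq_sup P Z hfixZ hM ⊥ bot_le hZP,
    Nine.pairRank_principal hM P hZP]

include hfixZ hfree hZP in
/-- The count of the principal characters. -/
theorem count (hM : IsPModular p M) :
    Nat.card (principalBlock M G) *
        Nat.card (Subgroup.normalizer ((P : Subgroup G) : Set G)) +
      Nat.card Z * Nat.card (Subgroup.centralizer ((P : Subgroup G) : Set G)) =
    Nat.card (P : Subgroup G) * Nat.card (Subgroup.centralizer ((P : Subgroup G) : Set G)) +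
      Nat.card Z * Nat.card (Subgroup.normalizer ((P : Subgroup G) : Set G)) *
        blockRank p (principalBlock M G) := by
  classical
  set C := Subgroup.centralizer ((P : Subgroup G) : Set G)
  set c := principalBlock M C
  have habP : ∀ x ∈ (P : Subgroup G), ∀ y ∈ (P : Subgroup G), x * y = y * x :=
    fun x hx y hy => congrArg Subtype.val (mul_comm' (⟨x, hx⟩ : (P : Subgroup G)) ⟨y, hy⟩)
  have hmax := (S4681.result p M hM P).1
  have hst : stab (P : Subgroup G) c = Subgroup.normalizer ((P : Subgroup G) : Set G) :=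
    Nine.stab_principal P
  have hcount := count_identity hM hmax habP 1 fun _ _ _ => rfl
  rw [if_pos rfl, hst] at hcount
  simp only [MonoidHom.one_apply, Units.val_one, mul_one] at hcount
  set N := Subgroup.normalizer ((P : Subgroup G) : Set G)
  set l := blockRank p (principalBlock M G)
  have hterm : ∀ v : (P : Subgroup G),
      (Nat.card (N ⊓ Subgroup.centralizer ({(v : G)} : Set G) : Subgroup G) : ℂ) *
        (pairRank p M (P : Subgroup G) c (Subgroup.zpowers (v : G)) : ℂ) =
      (Nat.card C : ℂ) +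
        if (v : G) ∈ Z then (Nat.card N : ℂ) * l - (Nat.card C : ℂ) else 0 := by
    intro v
    by_cases hv : (v : G) ∈ Z
    · rw [if_pos hv, inf_eq_left.2 fun n hn => Subgroup.mem_centralizer_singleton_iff.2 (hfixZ n hn _ hv),
        pairRank_eq_sup P Z hfixZ hM _ (Subgroup.zpowers_le.2 hv) hZP,
        ← pairRank_eq_sup P Z hfixZ hM ⊥ bot_le hZP, (bot_pair hM hmax).1]
      ring
    · have hNN : N ⊓ Subgroup.centralizer ({(v : G)} : Set G) = C :=
        le_antisymm (fun n hn => hfree n hn.1 _ v.2 hv (Subgroup.mem_centralizer_singleton_iff.1 hn.2))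
          (le_inf (Subgroup.centralizer_le_normalizer _)
            (Subgroup.centralizer_le (Set.singleton_subset_iff.2 v.2)))
      have hr := Nine.pairRank_eq_top hM hmax habP (Subgroup.zpowers (v : G))
        (Subgroup.zpowers_le.2 v.2) fun t ht htC w hw => by
          have htC' := Subgroup.mem_centralizer_iff.1 htC (v : G) (Subgroup.mem_zpowers _)
          rw [← Subgroup.mem_centralizer_iff.1 (hfree t (hst.le ht) _ v.2 hv htC'.symm) w hw,
            mul_inv_cancel_right]
      rw [if_neg hv, hNN, hr, Nine.pairRank_top_principal hM P, Nat.cast_one, mul_one, add_zero]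
  have hZc : (Finset.univ.filter fun v : (P : Subgroup G) => (v : G) ∈ Z).card = Nat.card Z := by
    rw [← Fintype.card_subtype, ← Nat.card_eq_fintype_card]
    exact Nat.card_congr (Subgroup.subgroupOfEquivOfLe hZP).toEquiv
  rw [Finset.sum_congr rfl fun v _ => hterm v, Finset.sum_add_distrib, ← Finset.sum_filter,
    Finset.sum_const, Finset.sum_const, hZc, Finset.card_univ, ← Nat.card_eq_fintype_card,
    nsmul_eq_mul, nsmul_eq_mul] at hcount
  have h : ((Nat.card (principalBlock M G) * Nat.card N + Nat.card Z * Nat.card C : ℕ) : ℂ) =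
      ((Nat.card (P : Subgroup G) * Nat.card C + Nat.card Z * Nat.card N * l : ℕ) : ℂ) := by
    push_cast
    linear_combination (-1 : ℂ) * hcount
  exact_mod_cast h

end Count

section Central

variable {G : Type u} [Group G] [Finite G] (P : Sylow p G) (Z : Subgroup G) [Z.Normal]
  (hfree : ∀ n ∈ Subgroup.normalizer ((P : Subgroup G) : Set G), ∀ v ∈ (P : Subgroup G), v ∉ Z →
    n * v = v * n → n ∈ Subgroup.centralizer ((P : Subgroup G) : Set G))

/-- An element acting trivially modulo central fixed points acts trivially. -/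
theorem commute_of_commute_mod (hZc : Z ≤ Subgroup.center G) (hZP : Z ≤ (P : Subgroup G))
    (hidx : ¬ p ∣ (Subgroup.centralizer ((P : Subgroup G) : Set G)).relIndex
      (Subgroup.normalizer ((P : Subgroup G) : Set G)))
    {n v : G} (hn : n ∈ Subgroup.normalizer ((P : Subgroup G) : Set G)) (hv : v ∈ (P : Subgroup G))
    (h : n * v * n⁻¹ * v⁻¹ ∈ Z) : n * v = v * n := by
  set z := n * v * n⁻¹ * v⁻¹
  have hzc : ∀ g, z * g = g * z := fun g => (Subgroup.mem_center_iff.1 (hZc h) g).symm
  have hpow : ∀ i : ℕ, n ^ i * v * (n ^ i)⁻¹ = z ^ i * v := by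
    intro i
    induction i with
    | zero => simp
    | succ i ih =>
      calc n ^ (i + 1) * v * (n ^ (i + 1))⁻¹ = n * (n ^ i * v * (n ^ i)⁻¹) * n⁻¹ := by
            rw [pow_succ']; group
        _ = n * z ^ i * (v * n⁻¹) := by rw [ih]; group
        _ = z ^ i * n * (v * n⁻¹) := by
            rw [((Commute.pow_left (hzc n : Commute z n)) i).eq]
        _ = z ^ i * z * v := by simp only [z]; group
        _ = z ^ (i + 1) * v := by rw [pow_succ]
  set N := Subgroup.normalizer ((P : Subgroup G) : Set G)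
  set C := (Subgroup.centralizer ((P : Subgroup G) : Set G)).subgroupOf N
  haveI : C.Normal := by
    rw [show C = (Subgroup.normalizerMonoidHom (P : Subgroup G)).ker from
      (Subgroup.normalizerMonoidHom_ker _).symm]
    infer_instance
  have hne : (⟨n, hn⟩ : N) ^ C.index ∈ C := Subgroup.pow_index_mem C _
  have hc := Subgroup.mem_centralizer_iff.1 (Subgroup.mem_subgroupOf.1 hne) v hv
  rw [Subgroup.coe_pow] at hc
  have hz1 : z ^ C.index = 1 := by
    have := hpow C.index
    rw [← hc, mul_inv_cancel_right] at this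
    exact mul_eq_right.1 this.symm
  obtain ⟨k, hk⟩ := P.isPGroup' ⟨z, hZP h⟩
  have hz : z = 1 := by
    refine orderOf_eq_one_iff.1 (Nat.eq_one_of_dvd_coprimes
      ((hp.out.coprime_iff_not_dvd.2 hidx).pow_left k) (orderOf_dvd_of_pow_eq_one ?_)
      (orderOf_dvd_of_pow_eq_one hz1))
    simpa using congrArg Subtype.val hk
  calc n * v = z * v * n := by simp only [z]; group
    _ = v * n := by rw [hz, one_mul]

variable [hab : IsMulCommutative (P : Subgroup G)]

/-- The image of the Sylow subgroup. -/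
noncomputable def bar : Sylow p (G ⧸ Z) := P.mapSurjective (QuotientGroup.mk'_surjective Z)

instance : IsMulCommutative (bar P Z : Subgroup (G ⧸ Z)) := by
  refine ⟨⟨fun a b => Subtype.ext ?_⟩⟩
  obtain ⟨x, hx, hxa⟩ := a.2
  obtain ⟨y, hy, hyb⟩ := b.2
  rw [Subgroup.coe_mul, Subgroup.coe_mul, ← hxa, ← hyb, ← map_mul, ← map_mul]
  exact congrArg _ (congrArg Subtype.val (mul_comm' (⟨x, hx⟩ : (P : Subgroup G)) ⟨y, hy⟩))

theorem mem_bar {x : G} (hZP : Z ≤ (P : Subgroup G)) :
    (x : G ⧸ Z) ∈ (bar P Z : Subgroup (G ⧸ Z)) ↔ x ∈ (P : Subgroup G) := by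
  constructor
  · rintro ⟨y, hy, hxy⟩
    have := mul_mem hy (hZP (QuotientGroup.eq.1 hxy))
    rwa [mul_inv_cancel_left] at this
  · exact fun h => ⟨x, h, rfl⟩

theorem normalizer_bar (hZP : Z ≤ (P : Subgroup G)) :
    (Subgroup.normalizer ((bar P Z : Subgroup (G ⧸ Z)) : Set (G ⧸ Z))).comap (QuotientGroup.mk' Z) =
      Subgroup.normalizer ((P : Subgroup G) : Set G) := by
  ext x
  rw [Subgroup.mem_comap]
  simp only [Subgroup.mem_normalizer_iff, SetLike.mem_coe]
  constructor
  · intro h y
    rw [← mem_bar P Z hZP, h (y : G ⧸ Z), ← mem_bar P Z hZP (x := x * y * x⁻¹)]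
    rfl
  · intro h y
    obtain ⟨y, rfl⟩ := QuotientGroup.mk'_surjective Z y
    exact ((mem_bar P Z hZP).trans (h y)).trans (mem_bar P Z hZP (x := x * y * x⁻¹)).symm

theorem centralizer_bar (hZc : Z ≤ Subgroup.center G) (hZP : Z ≤ (P : Subgroup G))
    (hidx : ¬ p ∣ (Subgroup.centralizer ((P : Subgroup G) : Set G)).relIndex
      (Subgroup.normalizer ((P : Subgroup G) : Set G))) :
    (Subgroup.centralizer ((bar P Z : Subgroup (G ⧸ Z)) : Set (G ⧸ Z))).comap (QuotientGroup.mk' Z) =
      Subgroup.centralizer ((P : Subgroup G) : Set G) := by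
  ext x
  rw [Subgroup.mem_comap]
  constructor
  · intro h
    have hn : x ∈ Subgroup.normalizer ((P : Subgroup G) : Set G) :=
      (normalizer_bar P Z hZP).le (Subgroup.centralizer_le_normalizer _ h)
    refine Subgroup.mem_centralizer_iff.2 fun v hv =>
      (commute_of_commute_mod P Z hZc hZP hidx hn hv ?_).symm
    rw [← QuotientGroup.eq_one_iff]
    have := Subgroup.mem_centralizer_iff.1 h (v : G ⧸ Z) ((mem_bar P Z hZP).2 hv)
    show (x : G ⧸ Z) * v * (x : G ⧸ Z)⁻¹ * (v : G ⧸ Z)⁻¹ = 1
    rw [show (x : G ⧸ Z) * v = v * x from this.symm]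
    group
  · intro h
    refine Subgroup.mem_centralizer_iff.2 ?_
    rintro _ ⟨v, hv, rfl⟩
    rw [← map_mul, ← map_mul, Subgroup.mem_centralizer_iff.1 h v hv]

include hfree in
theorem free_bar (hZc : Z ≤ Subgroup.center G) (hZP : Z ≤ (P : Subgroup G))
    (hidx : ¬ p ∣ (Subgroup.centralizer ((P : Subgroup G) : Set G)).relIndex
      (Subgroup.normalizer ((P : Subgroup G) : Set G))) :
    ∀ n ∈ Subgroup.normalizer ((bar P Z : Subgroup (G ⧸ Z)) : Set (G ⧸ Z)),
      ∀ v ∈ (bar P Z : Subgroup (G ⧸ Z)), v ∉ (⊥ : Subgroup (G ⧸ Z)) → n * v = v * n →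
      n ∈ Subgroup.centralizer ((bar P Z : Subgroup (G ⧸ Z)) : Set (G ⧸ Z)) := by
  intro n hn v hv hv1 hc
  obtain ⟨n, rfl⟩ := QuotientGroup.mk'_surjective Z n
  obtain ⟨v, rfl⟩ := QuotientGroup.mk'_surjective Z v
  have hn' : n ∈ Subgroup.normalizer ((P : Subgroup G) : Set G) := (normalizer_bar P Z hZP).le hn
  have hv' : v ∈ (P : Subgroup G) := (mem_bar P Z hZP).1 hv
  have hvZ : v ∉ Z := fun h => hv1 (Subgroup.mem_bot.2 ((QuotientGroup.eq_one_iff v).2 h))
  refine (centralizer_bar P Z hZc hZP hidx).ge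
    (hfree n hn' v hv' hvZ (commute_of_commute_mod P Z hZc hZP hidx hn' hv' ?_))
  rw [← QuotientGroup.eq_one_iff]
  show (n : G ⧸ Z) * v * (n : G ⧸ Z)⁻¹ * (v : G ⧸ Z)⁻¹ = 1
  rw [show (n : G ⧸ Z) * v = v * n from hc]
  group

theorem card_bar_mul {S : Subgroup (G ⧸ Z)} :
    Nat.card S * Nat.card Z = Nat.card (S.comap (QuotientGroup.mk' Z)) := by
  have h1 := S.card_mul_index
  have h2 := (S.comap (QuotientGroup.mk' Z)).card_mul_index
  rw [Subgroup.index_comap_of_surjective _ (QuotientGroup.mk'_surjective Z)] at h2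
  refine Nat.eq_of_mul_eq_mul_right (Nat.pos_of_ne_zero S.index_ne_zero_of_finite) ?_
  rw [h2, Z.card_eq_card_quotient_mul_card_subgroup, ← h1]
  ring

theorem comap_bar (hZP : Z ≤ (P : Subgroup G)) :
    (bar P Z : Subgroup (G ⧸ Z)).comap (QuotientGroup.mk' Z) = (P : Subgroup G) := by
  ext x
  exact mem_bar P Z hZP

include hfree in
/-- The count is multiplied by the order of the central fixed points. -/
theorem card_eq_mul (hM : IsPModular p M) (hZc : Z ≤ Subgroup.center G) (hZP : Z ≤ (P : Subgroup G))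
    (hidx : ¬ p ∣ (Subgroup.centralizer ((P : Subgroup G) : Set G)).relIndex
      (Subgroup.normalizer ((P : Subgroup G) : Set G))) :
    Nat.card (principalBlock M G) = Nat.card Z * Nat.card (principalBlock M (G ⧸ Z)) := by
  cases nonempty_fintype G
  haveI := Fintype.ofFinite (G ⧸ Z)
  have hZp : IsPGroup p Z := P.isPGroup'.to_le hZP
  have hsup : Z ⊔ Subgroup.centralizer (Z : Set G) = ⊤ :=
    eq_top_iff.2 fun x _ => le_sup_right (a := Z) (Subgroup.mem_centralizer_iff.2 fun z hz =>
      (Subgroup.mem_center_iff.1 (hZc hz) x).symm)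
  have h1 := count P Z hZP (fun n _ z hz => Subgroup.mem_center_iff.1 (hZc hz) n) hfree hM
  have h2 := count (bar P Z) ⊥ bot_le (fun n _ z hz => by simp [Subgroup.mem_bot.1 hz])
    (free_bar P Z hfree hZc hZP hidx) hM
  rw [H81.blockRank_principalBlock_quotient Z hM hZp hsup] at h1
  rw [← congrArg (fun S : Subgroup G => Nat.card S) (comap_bar P Z hZP),
    ← normalizer_bar P Z hZP, ← centralizer_bar P Z hZc hZP hidx, ← card_bar_mul, ← card_bar_mul,
    ← card_bar_mul] at h1
  rw [Subgroup.card_bot, one_mul, one_mul] at h2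
  refine Nat.eq_of_mul_eq_mul_right (Nat.mul_pos (Nat.card_pos (α := Subgroup.normalizer
    ((bar P Z : Subgroup (G ⧸ Z)) : Set (G ⧸ Z)))) (Nat.card_pos (α := Z))) ?_
  linarith [congrArg (fun x => Nat.card Z * Nat.card Z * x) h2, h1]

end Central

end Cfsg.Agent.H82.FreePoint
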