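import Cfsg.Agent.H82.FreePoint.Action

/-!
# Abelian Sylow 2-subgroups of order 8 and 16 with a point of trivial stabilizer
-/

set_option autoImplicit false
set_option linter.unusedSectionVars false
set_option linter.style.haveILetI false
set_option maxHeartbeats 1000000

namespace Cfsg.Agent.H82.FreePoint

open CharBasic BlockBasic H29.AbTwo Subgroup

universe u

variable {G : Type u} [Group G] [Finite G] {M : Ideal AlgInt}
variable (P : Sylow 2 G) [IsMulCommutative (P : Subgroup G)]

/-- An involution of the Sylow subgroup whose centralizer has a normal complement is fixed only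
by the centralizer. -/
theorem stab_of_hasNormalPComplement {x g : G} (hcomp : HasNormalPComplement 2 (centralizer ({x} : Set G)))
    (hxP : g * x * g⁻¹ ∈ (P : Subgroup G))
    {n : G} (hn : n ∈ normalizer ((P : Subgroup G) : Set G))
    (hc : n * (g * x * g⁻¹) = g * x * g⁻¹ * n) : n ∈ centralizer ((P : Subgroup G) : Set G) := by
  haveI : Fact (Nat.Prime 2) := ⟨Nat.prime_two⟩
  set N := normalizer ((P : Subgroup G) : Set G)
  set K := N ⊓ centralizer ({g * x * g⁻¹} : Set G)
  have hnK : n ∈ K := ⟨hn, mem_centralizer_singleton_iff.2 hc⟩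
  -- the group `K` has a normal complement
  have hK : HasNormalPComplement 2 K := by
    let φ : K →* centralizer ({x} : Set G) :=
      MonoidHom.mk' (fun k => ⟨g⁻¹ * (k : G) * g, mem_centralizer_singleton_iff.2 (by
        have h := mem_centralizer_singleton_iff.1 k.2.2
        calc g⁻¹ * (k : G) * g * x = g⁻¹ * ((k : G) * (g * x * g⁻¹)) * g := by group
          _ = g⁻¹ * (g * x * g⁻¹ * (k : G)) * g := by rw [h]
          _ = _ := by group)⟩) fun k k' => Subtype.ext (by
        show g⁻¹ * ((k : G) * k') * g = g⁻¹ * (k : G) * g * (g⁻¹ * (k' : G) * g)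
        group)
    refine Fusion.hasNormalPComplement_of_injective hcomp φ fun k k' h => Subtype.ext ?_
    have h' : g⁻¹ * (k : G) * g = g⁻¹ * (k' : G) * g := congrArg Subtype.val h
    exact mul_left_cancel (mul_right_cancel h')
  set C := centralizer ((P : Subgroup G) : Set G)
  have hgx : g * x * g⁻¹ ∈ (P : Subgroup G) := hxP
  have hPK : (P : Subgroup G) ≤ K := le_inf le_normalizer (mem_centralizer_of_mem hgx)
  haveI : ((P : Subgroup G).subgroupOf K).Normal :=
    normal_subgroupOf_of_le_normalizer inf_le_left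
  have hodd : ∀ m ∈ K, ¬ 2 ∣ orderOf m → m ∈ C := fun m hm ho =>
    mem_centralizer_iff.2 fun y hy => (congrArg Subtype.val
      (Fusion.commute_of_hasNormalPComplement hK (Q := (P : Subgroup G).subgroupOf K)
        P.isPGroup'.comap_subtype (g := ⟨m, hm⟩)
        (by rw [Subgroup.orderOf_mk]; exact (Nat.prime_two.coprime_iff_not_dvd.2 ho).symm)
        (x := ⟨y, hPK hy⟩) hy)).symm
  set v := (orderOf n).factorization 2
  have h1 : n ^ 2 ^ v ∈ C := by
    refine hodd _ (pow_mem hnK _) ?_
    rw [orderOf_pow' _ (pow_ne_zero _ two_ne_zero),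
      Nat.gcd_eq_right (Nat.ordProj_dvd (orderOf n) 2)]
    exact Nat.not_dvd_ordCompl Nat.prime_two (orderOf_pos n).ne'
  haveI := centralizer_subgroupOf_normal P
  have h2 : (QuotientGroup.mk (⟨n, hn⟩ : N) : N ⧸ C.subgroupOf N) ^ 2 ^ v = 1 := by
    rw [← QuotientGroup.mk_pow, QuotientGroup.eq_one_iff, mem_subgroupOf, Subgroup.coe_pow]
    exact h1
  have h3 : (QuotientGroup.mk (⟨n, hn⟩ : N) : N ⧸ C.subgroupOf N) ^ eInd P = 1 := by
    rw [eInd, relIndex, index_eq_card]
    exact pow_card_eq_one'
  have h4 : (QuotientGroup.mk (⟨n, hn⟩ : N) : N ⧸ C.subgroupOf N) = 1 :=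
    orderOf_eq_one_iff.1 (Nat.eq_one_of_dvd_coprimes
      ((Nat.coprime_two_left.2 odd_eInd).pow_left v)
      (orderOf_dvd_of_pow_eq_one h2) (orderOf_dvd_of_pow_eq_one h3))
  exact mem_subgroupOf.1 ((QuotientGroup.eq_one_iff _).1 h4)

/-- The count with a point of trivial stabilizer. -/
theorem card_cases (hM : IsPModular 2 M) {a : G} (haP : a ∈ (P : Subgroup G)) (ha : orderOf a = 2)
    (hstab : ∀ n ∈ normalizer ((P : Subgroup G) : Set G), n * a = a * n →
      n ∈ centralizer ((P : Subgroup G) : Set G)) :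
    (Nat.card (P : Subgroup G) = 8 → Nat.card (principalBlock M G) = 8) ∧
      (Nat.card (P : Subgroup G) = 16 →
        Nat.card (principalBlock M G) = 8 ∨ Nat.card (principalBlock M G) = 16) := by
  classical
  haveI : Fact (Nat.Prime 2) := ⟨Nat.prime_two⟩
  cases nonempty_fintype G
  have ha1 : a ≠ 1 := fun e => by rw [e, orderOf_one] at ha; omega
  set N := normalizer ((P : Subgroup G) : Set G) with hN
  set C := centralizer ((P : Subgroup G) : Set G) with hC
  obtain ⟨f, hf, hfv⟩ := orbit_injective P haP ha1 hstab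
  set q := Nat.card (P : Subgroup G) with hqdef
  set e := eInd P with hedef
  have hle : e + 1 ≤ q := by
    have h := Nat.card_le_card_of_injective f hf
    rw [card_ne_one, ← index_eq_card] at h
    have h0 := Nat.card_pos (α := (P : Subgroup G))
    change eInd P ≤ _ at h
    omega
  have hodd : e % 2 = 1 := Nat.odd_iff.1 odd_eInd
  have heI : (centralizer ((P : Subgroup G) : Set G)).relIndex (normalizer (P : Set G)) = e := rfl
  -- the transitive case
  have htrans : (q = 8 ∨ q = 16) → e + 1 = q → Nat.card (principalBlock M G) = q := by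
    intro hq he
    refine card_transitive P hM (fun n hn v hv hv1 hfixv => ?_) hq he
    have hbij := (Nat.bijective_iff_injective_and_card f).2 ⟨hf, by
      rw [card_ne_one, ← index_eq_card]; show eInd P = _; omega⟩
    obtain ⟨r, hr⟩ := hbij.2 ⟨⟨v, hv⟩, fun e => hv1 (congrArg Subtype.val e)⟩
    obtain ⟨m, rfl⟩ := QuotientGroup.mk_surjective r
    have hm := hfv m
    rw [hr] at hm
    simp only at hm
    subst hm
    have h1 : (m : G)⁻¹ * n * m ∈ C := by
      refine hstab _ (mul_mem (mul_mem (inv_mem m.2) hn) m.2) (mul_inv_eq_iff_eq_mul.1 ?_)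
      calc (m : G)⁻¹ * n * m * a * ((m : G)⁻¹ * n * m)⁻¹
          = (m : G)⁻¹ * (n * ((m : G) * a * (m : G)⁻¹) * n⁻¹) * m := by group
        _ = a := by rw [hfixv]; group
    haveI := centralizer_subgroupOf_normal P
    have h2 := (inferInstance : (C.subgroupOf N).Normal).conj_mem
      ⟨(m : G)⁻¹ * n * m, mul_mem (mul_mem (inv_mem m.2) hn) m.2⟩ (mem_subgroupOf.2 h1) m
    rw [mem_subgroupOf] at h2
    push_cast at h2
    show n ∈ C
    rwa [show (m : G) * ((m : G)⁻¹ * n * m) * (m : G)⁻¹ = n by group] at h2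
  -- the fixed points
  set Z : Subgroup G := (P : Subgroup G) ⊓ centralizer (N : Set G) with hZ
  have hZP : Z ≤ (P : Subgroup G) := inf_le_left
  have hfixZ : ∀ n ∈ N, ∀ z ∈ Z, n * z = z * n := fun n hn z hz => mem_centralizer_iff.1 hz.2 n hn
  -- one
  have hone : e = 1 → Nat.card (principalBlock M G) = q := by
    intro he
    have hNC : N ≤ C := by
      have := Subgroup.relIndex_eq_one.1 (show C.relIndex N = 1 from he)
      exact this
    have hfix' : ∀ n ∈ N, ∀ z ∈ (P : Subgroup G), n * z = z * n := fun n hn z hz =>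
      (mem_centralizer_iff.1 (hNC hn) z hz).symm
    have h := count_eInd P hM (P : Subgroup G) le_rfl hfix' fun n hn v hv hvP => absurd hv hvP
    rw [Nine.blockRank_principal_of_nil hM P hNC, ← hedef, he, mul_one, mul_one, ← hqdef] at h
    omega
  -- prime index
  have hprime : e.Prime → ∀ n ∈ N, ∀ v ∈ (P : Subgroup G), v ∉ Z → n * v = v * n → n ∈ C := by
    intro hp n hn v hv hvZ hc
    set S := N ⊓ centralizer ({v} : Set G)
    have hCS : C ≤ S := le_inf (centralizer_le_normalizer _)
      (centralizer_le (Set.singleton_subset_iff.2 hv))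
    have hdvd : C.relIndex S ∣ e := ⟨_, (relIndex_mul_relIndex C S N hCS inf_le_left).symm⟩
    rcases (Nat.dvd_prime hp).1 hdvd with h1 | h1
    · exact relIndex_eq_one.1 h1 ⟨hn, mem_centralizer_singleton_iff.2 hc⟩
    · exfalso
      refine hvZ ⟨hv, mem_centralizer_iff.2 fun m hm => ?_⟩
      have h2 := relIndex_mul_relIndex C S N hCS inf_le_left
      rw [show C.relIndex N = e from rfl, h1] at h2
      have h3 : N ≤ S := relIndex_eq_one.1 (mul_right_eq_self₀.1 h2 |>.resolve_right hp.pos.ne')
      exact mem_centralizer_singleton_iff.1 (h3 hm).2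
  have hdiv : e.Prime → Nat.card Z ∣ q ∧ Nat.card Z < q ∧
      ∃ k l : ℕ, k * e + Nat.card Z = q + Nat.card Z * e * l := by
    intro hp
    refine ⟨card_dvd_of_le hZP, ?_, _, _, count_eInd P hM Z hZP hfixZ (hprime hp)⟩
    refine lt_of_le_of_ne (card_le_of_le hZP) fun h => ?_
    have hPZ := eq_of_le_of_card_ge hZP h.ge
    refine hp.ne_one (relIndex_eq_one.2 fun n hn => mem_centralizer_iff.2 fun z hz => ?_)
    exact (hfixZ n hn z (hPZ.ge hz)).symm
  have hfree1 : e.Prime → Nat.card Z = 1 → H86.Abelian.FreeFusion P := fun hp h1 =>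
    freeFusion_of_free fun n hn v hv hv1 =>
      hprime hp n hn v hv (by rwa [eq_bot_of_card_eq Z h1])
  have hmod : e.Prime → ∃ z : ℕ, Nat.card Z = z ∧ z ∣ q ∧ z < q ∧ z % e = q % e := by
    intro hp
    obtain ⟨h1, h2, k, l, h⟩ := hdiv hp
    refine ⟨_, rfl, h1, h2, ?_⟩
    have := congrArg (· % e) h
    simp only [Nat.add_mod, Nat.mul_mod, Nat.mod_self, mul_zero, Nat.zero_mod, zero_mul, zero_add,
      add_zero, Nat.mod_mod] at this
    exact this
  refine ⟨fun hq => ?_, fun hq => ?_⟩
  · have he' : e = 1 ∨ e = 3 ∨ e = 5 ∨ e = 7 := by omega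
    rcases he' with he | he | he | he
    · rw [hone he, hq]
    · obtain ⟨z, hz, hzd, hzq, hzm⟩ := hmod (by rw [he]; exact Nat.prime_three)
      rw [hq] at hzd hzq hzm
      rw [he] at hzm
      have : z = 2 := by
        have : z ∈ Nat.divisors 8 := Nat.mem_divisors.2 ⟨hzd, by norm_num⟩
        rw [show Nat.divisors 8 = {1, 2, 4, 8} by decide] at this
        simp only [Finset.mem_insert, Finset.mem_singleton] at this
        omega
      rw [card_fixed P hM Z hZP hfixZ (hprime (by rw [he]; exact Nat.prime_three))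
        (Or.inl (by rw [hz, ← hqdef, hq, this])), ← hqdef, hq]
    · exfalso
      obtain ⟨z, hz, hzd, hzq, hzm⟩ := hmod (by rw [he]; exact Nat.prime_five)
      rw [hq] at hzd hzq hzm
      rw [he] at hzm
      have : z ∈ Nat.divisors 8 := Nat.mem_divisors.2 ⟨hzd, by norm_num⟩
      rw [show Nat.divisors 8 = {1, 2, 4, 8} by decide] at this
      simp only [Finset.mem_insert, Finset.mem_singleton] at this
      omega
    · rw [htrans (Or.inl hq) (by omega), hq]
  · have he' : e = 1 ∨ e = 3 ∨ e = 5 ∨ e = 7 ∨ e = 9 ∨ e = 11 ∨ e = 13 ∨ e = 15 := by omega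
    have hz16 : ∀ z, z ∣ 16 → z = 1 ∨ z = 2 ∨ z = 4 ∨ z = 8 ∨ z = 16 := by
      intro z hzd
      have : z ∈ Nat.divisors 16 := Nat.mem_divisors.2 ⟨hzd, by norm_num⟩
      rw [show Nat.divisors 16 = {1, 2, 4, 8, 16} by decide] at this
      simpa only [Finset.mem_insert, Finset.mem_singleton] using this
    rcases he' with he | he | he | he | he | he | he | he
    · exact Or.inr (by rw [hone he, hq])
    · have hp : e.Prime := by rw [he]; exact Nat.prime_three
      obtain ⟨z, hz, hzd, hzq, hzm⟩ := hmod hp
      rw [hq] at hzd hzq hzm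
      rw [he] at hzm
      have := hz16 z hzd
      have hz14 : z = 1 ∨ z = 4 := by omega
      rcases hz14 with rfl | rfl
      swap
      · refine Or.inr ?_
        rw [card_fixed P hM Z hZP hfixZ (hprime hp) (Or.inl (by rw [hz, ← hqdef, hq])), ← hqdef, hq]
      refine Or.inl ?_
      haveI := Fintype.ofFinite (P : Subgroup G)
      haveI := Fintype.ofFinite (normalizer ((P : Subgroup G) : Set G))
      obtain ⟨Y, ζ, δ, d, a', hδ, hYB, htY, hat, -, -, -, hYc, -, hout, hsq, -⟩ :=
        H86.Abelian.exists_exceptional P hM (hfree1 hp hz) (by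
          rw [heI, he, ← hqdef, hq]; norm_num)
      rw [heI, he] at hYc hsq
      rw [← hqdef, hq] at hYc
      have hY5 : Y.card = 5 := by omega
      rw [hY5] at hsq
      set S := Finset.univ.filter fun χ : IrrCharacter G => χ ∈ principalBlock M G ∧ χ ∉ Y
      rw [← Finset.sum_filter] at hsq
      have htS : (trivialIrr : IrrCharacter G) ∈ S :=
        Finset.mem_filter.2 ⟨Finset.mem_univ _, sameBlock_refl hM _, htY⟩
      have hone' : (1 : ℤ) ≤ ∑ χ ∈ S, a' χ ^ 2 := by
        have := Finset.single_le_sum (f := fun χ => a' χ ^ 2) (fun χ _ => sq_nonneg _) htS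
        simp only [hat, one_pow] at this
        exact this
      norm_num at hsq
      have hd0 : d = 0 := by
        by_contra hd
        have : 1 ≤ d ^ 2 := by
          have := Int.one_le_abs hd
          nlinarith [sq_abs d, abs_nonneg d]
        nlinarith [sq_nonneg (d - δ)]
      have hS3 : ∑ χ ∈ S, a' χ ^ 2 = 3 := by
        rw [hd0] at hsq
        rcases hδ with e' | e' <;> rw [e'] at hsq <;> norm_num at hsq <;> linarith
      have hterm : ∀ χ ∈ S, a' χ ^ 2 = 1 := by
        intro χ hχ
        have h0 := (hout χ (Finset.mem_filter.1 hχ).2.1 (Finset.mem_filter.1 hχ).2.2).1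
        have h3 := Finset.single_le_sum (f := fun χ => a' χ ^ 2) (fun χ _ => sq_nonneg _) hχ
        simp only [hS3] at h3
        have hb : -2 < a' χ ∧ a' χ < 2 := by constructor <;> nlinarith
        have : a' χ = 1 ∨ a' χ = -1 := by omega
        rcases this with h' | h' <;> rw [h'] <;> norm_num
      rw [Finset.sum_congr rfl hterm, Finset.sum_const, nsmul_eq_mul, mul_one] at hS3
      have hSc : S.card = 3 := by exact_mod_cast hS3
      have hsplit : (Finset.univ.filter fun χ : IrrCharacter G => χ ∈ principalBlock M G) = Y ∪ S := by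
        ext χ
        simp only [S, Finset.mem_filter, Finset.mem_univ, true_and, Finset.mem_union]
        constructor
        · intro h; by_cases hY : χ ∈ Y
          · exact Or.inl hY
          · exact Or.inr ⟨h, hY⟩
        · rintro (h | h)
          · exact hYB χ h
          · exact h.1
      rw [Nat.card_eq_fintype_card, Fintype.card_subtype, hsplit, Finset.card_union_of_disjoint
        (Finset.disjoint_left.2 fun χ h1 h2 => (Finset.mem_filter.1 h2).2.2 h1), hY5, hSc]
    · have hp : e.Prime := by rw [he]; exact Nat.prime_five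
      obtain ⟨z, hz, hzd, hzq, hzm⟩ := hmod hp
      rw [hq] at hzd hzq hzm
      rw [he] at hzm
      have := hz16 z hzd
      obtain rfl : z = 1 := by omega
      have hfix := hfree1 hp hz
      refine Or.inl (card_eq_five hfix (fun x hx => ?_) (Or.inr hq) hM he hq)
      -- squares are fixed
      let sq : (P : Subgroup G) →* (P : Subgroup G) :=
        MonoidHom.mk' (fun y => y ^ 2) fun y y' => (show Commute y y' from mul_comm' y y').mul_pow 2
      by_contra hx2
      have hmap : ∀ y, y ∈ sq.range → ∀ n ∈ N, ∃ y' ∈ sq.range, (y' : G) = n * (y : G) * n⁻¹ := by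
        rintro _ ⟨y, rfl⟩ n hn
        refine ⟨sq ⟨n * y * n⁻¹, (mem_normalizer_iff.1 hn y).1 y.2⟩, ⟨_, rfl⟩, ?_⟩
        show (n * (y : G) * n⁻¹) ^ 2 = n * ((y ^ 2 : (P : Subgroup G)) : G) * n⁻¹
        rw [conj_pow, Subgroup.coe_pow]
      have hker : 6 ≤ Nat.card sq.ker := by
        let g : Option (N ⧸ C.subgroupOf N) → sq.ker := fun o => o.elim 1 fun r =>
          ⟨(f r).1, by
            obtain ⟨n, rfl⟩ := QuotientGroup.mk_surjective r
            refine MonoidHom.mem_ker.2 (Subtype.ext ?_)
            show (((f (QuotientGroup.mk n)).1 : (P : Subgroup G)) : G) ^ 2 = 1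
            rw [hfv, conj_pow, show a ^ 2 = 1 from ha ▸ pow_orderOf_eq_one a, mul_one, mul_inv_cancel]⟩
        have hg : Function.Injective g := by
          intro o o' h
          rcases o with _ | r <;> rcases o' with _ | r'
          · rfl
          · exact absurd (congrArg Subtype.val h).symm (f r').2
          · exact absurd (congrArg Subtype.val h) (f r).2
          · exact congrArg some (hf (Subtype.ext (congrArg Subtype.val h :)))
        have := Nat.card_le_card_of_injective g hg
        rw [Finite.card_option, ← index_eq_card] at this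
        change eInd P + 1 ≤ _ at this
        omega
      have hprod : Nat.card sq.ker * Nat.card sq.range = 16 := by
        have h := sq.ker.card_mul_index
        rwa [index_ker, ← hqdef, hq] at h
      have hxr : (⟨x ^ 2, pow_mem hx 2⟩ : (P : Subgroup G)) ∈ sq.range := ⟨⟨x, hx⟩, rfl⟩
      have hr2 : Nat.card sq.range = 2 := by
        have h2 : 2 ≤ Nat.card sq.range := by
          haveI : Nontrivial sq.range := ⟨⟨_, hxr⟩, 1, fun h => hx2 (congrArg Subtype.val
            (congrArg Subtype.val h))⟩
          exact Finite.one_lt_card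
        by_contra h
        have : Nat.card sq.ker * 3 ≤ 16 := hprod ▸ Nat.mul_le_mul_left _ (by omega)
        omega
      refine hx2 (Subgroup.mem_bot.1 ((eq_bot_of_card_eq Z hz).le
        ⟨pow_mem hx 2, mem_centralizer_iff.2 fun n hn => ?_⟩))
      obtain ⟨y', hy', hyv⟩ := hmap _ hxr n hn
      have hy1 : y' ≠ 1 := fun e => hx2 (conj_eq_one_iff.1 (by rw [← hyv, e, Subgroup.coe_one]))
      obtain ⟨u, hu, huniq⟩ : ∃ u, u ≠ (1 : sq.range) ∧ ∀ w : sq.range, w ≠ 1 → w = u :=
        ⟨((Nat.card_eq_two_iff' (1 : sq.range)).1 hr2).choose,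
          (((Nat.card_eq_two_iff' (1 : sq.range)).1 hr2).choose_spec).1,
          (((Nat.card_eq_two_iff' (1 : sq.range)).1 hr2).choose_spec).2⟩
      have h3 : (⟨y', hy'⟩ : sq.range) = ⟨_, hxr⟩ :=
        (huniq _ fun e => hy1 (congrArg Subtype.val e)).trans
          (huniq _ fun e => hx2 (congrArg Subtype.val (congrArg Subtype.val e))).symm
      have h4 : (y' : G) = x ^ 2 :=
        congrArg (fun w : sq.range => ((w : (P : Subgroup G)) : G)) h3
      exact mul_inv_eq_iff_eq_mul.1 (hyv.symm.trans h4)
    · have hp : e.Prime := by rw [he]; norm_num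
      obtain ⟨z, hz, hzd, hzq, hzm⟩ := hmod hp
      rw [hq] at hzd hzq hzm
      rw [he] at hzm
      have := hz16 z hzd
      obtain rfl : z = 2 := by omega
      refine Or.inr ?_
      rw [card_fixed P hM Z hZP hfixZ (hprime hp) (Or.inr ⟨by rw [hz, ← hqdef, hq], he⟩), ← hqdef, hq]
    · -- index nine
      obtain ⟨F⟩ := Nine.exists_frame (P : Subgroup G) hq (by rw [eInd_eq_relIndex, ← hedef, he])
      have hsq : ∀ F : Nine.Frame (P : Subgroup G), ∀ v ∈ F.V₁, v * v = 1 := by
        intro F v hv
        by_contra hv2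
        set w : F.V₁ := ⟨v, hv⟩
        have hw4 : w ^ 4 = 1 := by
          have := pow_card_eq_one' (x := w)
          rwa [F.card₁] at this
        have ho : orderOf w = 4 := by
          refine orderOf_eq_prime_pow (p := 2) (n := 1) ?_ hw4
          intro h
          apply hv2
          have := congrArg Subtype.val h
          rw [Subgroup.coe_pow, pow_one, pow_two] at this
          exact this
        have htop : zpowers w = ⊤ := eq_top_of_card_eq _ (by rw [Nat.card_zpowers, ho, F.card₁])
        have hS : N ≤ F.S₁ := by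
          intro n hn
          rw [← F.stab₁ (v * v) (mul_mem hv hv) hv2]
          refine ⟨hn, mem_centralizer_singleton_iff.2 (mul_inv_eq_iff_eq_mul.1 ?_)⟩
          have hmem : n * (v * v) * n⁻¹ ∈ F.V₁ := by
            refine (F.mem₁ _ ((mem_normalizer_iff.1 hn _).1 (mul_mem (F.le₁ hv) (F.le₁ hv)))).1
              fun s hs => ?_
            have h := (F.mem₁ _ (mul_mem (F.le₁ hv) (F.le₁ hv))).2 (mul_mem hv hv) (n⁻¹ * s * n)
              (by simpa using F.normal₁ n⁻¹ (inv_mem hn) s hs)
            calc s * (n * (v * v) * n⁻¹) = n * (n⁻¹ * s * n * (v * v)) * n⁻¹ := by group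
              _ = n * (v * v * (n⁻¹ * s * n)) * n⁻¹ := by rw [h]
              _ = _ := by group
          obtain ⟨i, hi⟩ := mem_zpowers_iff.1 (htop.ge (mem_top (⟨_, hmem⟩ : F.V₁)))
          have hu2 : (w ^ i) ^ 2 = 1 := by
            rw [hi]
            refine Subtype.ext ?_
            show (n * (v * v) * n⁻¹) ^ 2 = 1
            have h4 : v ^ 4 = 1 := congrArg Subtype.val hw4
            rw [conj_pow, pow_two, show v * v * (v * v) = v ^ 4 by simp [pow_succ, mul_assoc], h4, mul_one, mul_inv_cancel]
          rw [← zpow_natCast (w ^ i), ← zpow_mul, ← orderOf_dvd_iff_zpow_eq_one, ho] at hu2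
          obtain ⟨j, hj⟩ : (2 : ℤ) ∣ i := by omega
          have hne : ¬ (4 : ℤ) ∣ i := fun h4 => by
            rw [show ((w ^ i : F.V₁)) = 1 from orderOf_dvd_iff_zpow_eq_one.1 (by rw [ho]; exact h4)] at hi
            exact hv2 (conj_eq_one_iff.1 (congrArg Subtype.val hi).symm)
          have hi' : w ^ i = w ^ (2 : ℤ) := zpow_eq_zpow_iff_modEq.2 (by
            rw [ho]; show i % 4 = 2 % 4; omega)
          have := congrArg Subtype.val (hi'.symm.trans hi)
          rw [SubgroupClass.coe_zpow] at this
          simp only [zpow_two] at this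
          exact this.symm
        have h1 := F.index₁
        have h2 := card_le_of_le hS
        have := Nat.card_pos (α := F.S₁)
        change Nat.card F.S₁ * 3 = Nat.card N at h1
        omega
      refine Or.inr (Nine.Frame.card_eq P hq (fun x hx => ?_) ?_ F hM)
      · let g : F.V₁ × F.V₂ → (P : Subgroup G) := fun u =>
          ⟨(u.1 : G) * u.2, mul_mem (F.le₁ u.1.2) (F.le₂ u.2.2)⟩
        have hinj : Function.Injective g := fun u u' he => by
          have he' : (u.1 : G) * u.2 = u'.1 * u'.2 := congrArg Subtype.val he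
          have h0 : (u'.1 : G)⁻¹ * u.1 ∈ F.V₁ ⊓ F.V₂ := by
            refine ⟨F.V₁.mul_mem (F.V₁.inv_mem u'.1.2) u.1.2, ?_⟩
            rw [show (u'.1 : G)⁻¹ * u.1 = (u'.2 : G) * (u.2 : G)⁻¹ by
              rw [eq_mul_inv_iff_mul_eq, mul_assoc, he', inv_mul_cancel_left]]
            exact F.V₂.mul_mem u'.2.2 (F.V₂.inv_mem u.2.2)
          rw [F.disj, Subgroup.mem_bot, inv_mul_eq_one] at h0
          rw [← h0, mul_right_inj] at he'
          exact Prod.ext (Subtype.ext h0.symm) (Subtype.ext he')
        obtain ⟨⟨u, v⟩, huv⟩ := ((Nat.bijective_iff_injective_and_card g).2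
          ⟨hinj, by rw [Nat.card_prod, F.card₁, F.card₂, ← hqdef, hq]⟩).2 ⟨x, hx⟩
        rw [show x = (u : G) * v from (congrArg Subtype.val huv).symm,
          show (u : G) * v * (u * v) = (u : G) * (v * u) * v by group,
          ← H86.Abelian.mul_comm_sylow P (F.le₁ u.2) (F.le₂ v.2),
          show (u : G) * (u * v) * v = (u * u) * ((v : G) * v) by group,
          hsq F _ u.2, hsq F.swap _ v.2, one_mul]
      · rw [← eInd_mul (P := P), ← hedef, he]
    · exfalso
      obtain ⟨z, hz, hzd, hzq, hzm⟩ := hmod (by rw [he]; norm_num)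
      rw [hq] at hzd hzq hzm
      rw [he] at hzm
      have := hz16 z hzd
      omega
    · exfalso
      obtain ⟨z, hz, hzd, hzq, hzm⟩ := hmod (by rw [he]; norm_num)
      rw [hq] at hzd hzq hzm
      rw [he] at hzm
      have := hz16 z hzd
      omega
    · exact Or.inr (by rw [htrans (Or.inr hq) (by omega), hq])

end Cfsg.Agent.H82.FreePoint
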