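import Cfsg.Agent.H82.FreePoint.Signal
import Cfsg.Agent.H82.FreePoint.Count
import Cfsg.Agent.Cores.PrincipalLambda
import Cfsg.Agent.H38.Odd

/-!
# Free fusion in an elementary abelian Sylow subgroup: passing to the quotient by the odd core
-/

set_option autoImplicit false
set_option linter.unusedSectionVars false
set_option linter.style.haveILetI false

namespace Cfsg.Agent.H82.FreePoint

open CharBasic BlockBasic H29.AbTwo Subgroup

universe u

/-- A group of order fifteen is commutative. -/
theorem commutative_of_card_fifteen {H : Type u} [Group H] [Finite H] (h : Nat.card H = 15)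
    (a b : H) : a * b = b * a := by
  haveI : Fact (Nat.Prime 5) := ⟨Nat.prime_five⟩
  obtain ⟨S⟩ : Nonempty (Sylow 5 H) := inferInstance
  have hS5 : Nat.card (S : Subgroup H) = 5 := by
    have h1 : 5 ∣ Nat.card H := by rw [h]; norm_num
    have h2 := S.card_eq_multiplicity
    rw [h, show (15 : ℕ) = 5 * 3 by norm_num, Nat.factorization_mul (by norm_num) (by norm_num),
      Finsupp.add_apply, Nat.Prime.factorization_self Nat.prime_five,
      Nat.factorization_eq_zero_of_not_dvd (show ¬ 5 ∣ 3 by norm_num)] at h2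
    simpa using h2
  have hi : (S : Subgroup H).index = 3 := by
    have h1 := (S : Subgroup H).card_mul_index
    rw [hS5, h] at h1
    omega
  haveI hn : (S : Subgroup H).Normal := by
    rw [← normalizer_eq_top_iff, ← index_eq_one]
    refine S.card_eq_index_normalizer.symm.trans ?_
    have h1 := card_sylow_modEq_one 5 H
    have h2 := S.card_dvd_index
    rw [hi] at h2
    rcases (Nat.dvd_prime Nat.prime_three).1 h2 with e | e
    · exact e
    · rw [e] at h1; exact absurd h1 (by decide)
  haveI hcyc : IsCyclic (S : Subgroup H) := isCyclic_of_prime_card hS5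
  have hcent : (S : Subgroup H) ≤ center H := by
    intro x hx
    rw [mem_center_iff]
    intro g
    set φ : H →* MulAut (S : Subgroup H) := MulAut.conjNormal
    have h1 : orderOf (φ g) ∣ 15 := h ▸ (orderOf_map_dvd φ g).trans (orderOf_dvd_natCard g)
    have h2 : orderOf (φ g) ∣ 4 := by
      refine (orderOf_dvd_natCard (φ g)).trans ?_
      rw [IsCyclic.card_mulAut, hS5]
      decide
    have h3 : φ g = 1 := orderOf_eq_one_iff.1 (Nat.dvd_one.1 ((Nat.dvd_gcd h1 h2).trans (by norm_num)))
    have h4 := congrArg Subtype.val (DFunLike.congr_fun h3 ⟨x, hx⟩)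
    rw [MulAut.conjNormal_apply, MulAut.one_apply] at h4
    exact mul_inv_eq_iff_eq_mul.1 h4
  haveI : Fact (Nat.Prime 3) := ⟨Nat.prime_three⟩
  haveI : IsCyclic (H ⧸ (S : Subgroup H)) :=
    isCyclic_of_prime_card (p := 3) (by rw [← index_eq_card, hi])
  haveI := MonoidHom.isMulCommutative_of_isCyclic_of_ker_le_center
    (QuotientGroup.mk' (S : Subgroup H)) (by rw [QuotientGroup.ker_mk']; exact hcent)
  exact mul_comm' a b

variable {G : Type u} [Group G] [Finite G] {P : Sylow 2 G} [IsMulCommutative (P : Subgroup G)]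
variable (hfix : H86.Abelian.FreeFusion P) (hel : ∀ x ∈ (P : Subgroup G), x ^ 2 = 1)
  (hq : Nat.card (P : Subgroup G) = 8 ∨ Nat.card (P : Subgroup G) = 16)
  {M : Ideal AlgInt} (hM : IsPModular 2 M)

/-- The Sylow subgroup of the quotient by the odd core. -/
noncomputable abbrev red (P : Sylow 2 G) : Sylow 2 (G ⧸ pPrimeCore 2 G) :=
  haveI : Fact (Nat.Prime 2) := ⟨Nat.prime_two⟩
  bar P (pPrimeCore 2 G)

theorem eq_one_of_mem_core {x : G} (hx : x ∈ pPrimeCore 2 G) (hxP : x ∈ (P : Subgroup G)) : x = 1 :=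
  eq_one_of_odd_sylow (Nat.coprime_two_right.1 Cores.coprime_card_pPrimeCore) hx hxP

theorem mem_red {x : G} : (x : G ⧸ pPrimeCore 2 G) ∈ (red P : Subgroup (G ⧸ pPrimeCore 2 G)) ↔
    ∃ r ∈ pPrimeCore 2 G, ∃ y ∈ (P : Subgroup G), x = y * r := by
  constructor
  · rintro ⟨y, hy, hxy⟩
    exact ⟨y⁻¹ * x, QuotientGroup.eq.1 hxy, y, hy, (mul_inv_cancel_left y x).symm⟩
  · rintro ⟨r, hr, y, hy, rfl⟩
    exact ⟨y, hy, QuotientGroup.eq.2 (by simpa using hr)⟩

theorem card_red : Nat.card (red P : Subgroup (G ⧸ pPrimeCore 2 G)) = Nat.card (P : Subgroup G) := by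
  refine (Nat.card_congr (Equiv.ofBijective
    (fun y : (P : Subgroup G) => (⟨((y : G) : G ⧸ pPrimeCore 2 G), (y : G), y.2, rfl⟩ :
      (red P : Subgroup (G ⧸ pPrimeCore 2 G)))) ⟨fun a b h => ?_, fun c => ?_⟩)).symm
  · have h' := eq_one_of_mem_core (QuotientGroup.eq.1 (congrArg Subtype.val h))
      (mul_mem (inv_mem a.2) b.2)
    exact Subtype.ext (inv_mul_eq_one.1 h')
  · obtain ⟨y, hy, hyc⟩ := c.2
    exact ⟨⟨y, hy⟩, Subtype.ext hyc⟩

theorem sq_red (hel : ∀ x ∈ (P : Subgroup G), x ^ 2 = 1) :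
    ∀ x ∈ (red P : Subgroup (G ⧸ pPrimeCore 2 G)), x ^ 2 = 1 := by
  rintro _ ⟨y, hy, rfl⟩
  rw [← map_pow, hel y hy, map_one]

include hfix hel hq hM in
theorem centralizer_red {a : G ⧸ pPrimeCore 2 G}
    (ha : a ∈ (red P : Subgroup (G ⧸ pPrimeCore 2 G))) (ha1 : a ≠ 1) :
    centralizer ({a} : Set (G ⧸ pPrimeCore 2 G)) = (red P : Subgroup (G ⧸ pPrimeCore 2 G)) := by
  obtain ⟨a, haP, rfl⟩ := ha
  have ha1' : a ≠ 1 := fun e => ha1 (by rw [e, map_one])
  refine le_antisymm (fun c hc => ?_) fun c hc => ?_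
  · obtain ⟨c, rfl⟩ := QuotientGroup.mk'_surjective _ c
    set R := pPrimeCore 2 G
    have hRodd : Odd (Nat.card R) := Nat.coprime_two_right.1 Cores.coprime_card_pPrimeCore
    set z := a⁻¹ * (c * a * c⁻¹)
    have hz : z ∈ R := by
      rw [← QuotientGroup.eq]
      have h := mem_centralizer_singleton_iff.1 hc
      show (a : G ⧸ R) = (c : G ⧸ R) * a * (c : G ⧸ R)⁻¹
      rw [show (c : G ⧸ R) * a = a * c from h, mul_inv_cancel_right]
    have haa : a * a = 1 := by rw [← pow_two]; exact hel a haP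
    have hzinv : a * z * a⁻¹ = z⁻¹ := by
      have h1 : c * a * c⁻¹ * (c * a * c⁻¹) = 1 := by
        rw [← pow_two, conj_pow, hel a haP, mul_one, mul_inv_cancel]
      rw [eq_inv_iff_mul_eq_one]
      calc a * z * a⁻¹ * z = c * a * c⁻¹ * ((a * a)⁻¹ * (c * a * c⁻¹)) := by simp only [z]; group
        _ = 1 := by rw [haa, inv_one, one_mul, h1]
    set r := H38.rt R z
    have hr : a * r * a⁻¹ = r⁻¹ := by rw [H38.conj_rt, hzinv, H38.rt_inv]
    have hrc : r * c ∈ centralizer ({a} : Set G) := by
      refine mem_centralizer_singleton_iff.2 ?_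
      have e1 : c * a * c⁻¹ = a * (r * r) := by rw [H38.rt_mul_self hRodd hz]; simp only [z]; group
      have e2 : r * (a * r) = a := by
        have e3 : a * r = r⁻¹ * a := mul_inv_eq_iff_eq_mul.1 hr
        rw [e3, mul_inv_cancel_left]
      calc r * c * a = r * (c * a * c⁻¹) * c := by group
        _ = r * (a * r) * (r * c) := by rw [e1]; group
        _ = _ := by rw [e2]
    obtain ⟨k, hk, y, hy, hky⟩ := centralizer_eq hfix haP ha1' hrc
    refine mem_red.2 ⟨y⁻¹ * (r⁻¹ * k) * y, ?_, y, hy, ?_⟩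
    · have h1 : r⁻¹ * k ∈ R := mul_mem (inv_mem (H38.rt_mem hz))
        (bigW_le_core hfix hel hq hM (oddAt_le_bigW hfix haP ha1' hk))
      simpa using (inferInstance : R.Normal).conj_mem _ h1 y⁻¹
    · calc c = r⁻¹ * (r * c) := by group
        _ = r⁻¹ * (k * y) := by rw [hky]
        _ = _ := by group
  · obtain ⟨y, hy, rfl⟩ := hc
    refine mem_centralizer_singleton_iff.2 ?_
    rw [← map_mul, ← map_mul, H86.Abelian.mul_comm_sylow P hy haP]

include hM in
theorem card_principal_red :
    Nat.card (principalBlock M G) = Nat.card (principalBlock M (G ⧸ pPrimeCore 2 G)) := by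
  haveI : Fact (Nat.Prime 2) := ⟨Nat.prime_two⟩
  cases nonempty_fintype G
  have h := Cores.sum_principalBlock_quotient (A := ℕ) hM (pPrimeCore 2 G)
    Cores.not_dvd_card_pPrimeCore fun _ => 1
  classical
  rw [finsum_mem_eq_finite_toFinset_sum _ (Set.toFinite _),
    finsum_mem_eq_finite_toFinset_sum _ (Set.toFinite _), Finset.sum_const, Finset.sum_const,
    smul_eq_mul, smul_eq_mul, mul_one, mul_one] at h
  rwa [Nat.card_eq_card_finite_toFinset (Set.toFinite _),
    Nat.card_eq_card_finite_toFinset (Set.toFinite _)]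

include hfix hel hq hM in
/-- In the normal case the index is the inertial index. -/
theorem index_red [(red P : Subgroup (G ⧸ pPrimeCore 2 G)).Normal] :
    (red P : Subgroup (G ⧸ pPrimeCore 2 G)).index = eInd P := by
  haveI : Fact (Nat.Prime 2) := ⟨Nat.prime_two⟩
  set R := pPrimeCore 2 G
  set Q := (red P : Subgroup (G ⧸ R))
  set N := normalizer ((P : Subgroup G) : Set G)
  set C := (centralizer ((P : Subgroup G) : Set G)).subgroupOf N
  let f : N →* (G ⧸ R) ⧸ Q := ((QuotientGroup.mk' Q).comp (QuotientGroup.mk' R)).comp N.subtype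
  have hsurj : Function.Surjective f := by
    intro u
    obtain ⟨u, rfl⟩ := QuotientGroup.mk'_surjective Q u
    obtain ⟨g, rfl⟩ := QuotientGroup.mk'_surjective R u
    set L := Q.comap (QuotientGroup.mk' R)
    have hPL : (P : Subgroup G) ≤ L := fun y hy => ⟨y, hy, rfl⟩
    have htop := Sylow.normalizer_sup_eq_top (P.subtype hPL)
    rw [show ((P.subtype hPL : Sylow 2 L) : Subgroup L).map L.subtype = (P : Subgroup G) by
      rw [Sylow.coe_subtype, subgroupOf_map_subtype, inf_eq_left.2 hPL]] at htop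
    have hg : g ∈ N ⊔ L := htop ▸ mem_top g
    rw [← SetLike.mem_coe, Subgroup.mul_normal] at hg
    obtain ⟨n, hn, l, hl, rfl⟩ := hg
    refine ⟨⟨n, hn⟩, ?_⟩
    show ((n : G ⧸ R) : (G ⧸ R) ⧸ Q) = (((n * l : G) : G ⧸ R) : (G ⧸ R) ⧸ Q)
    rw [QuotientGroup.eq, QuotientGroup.mk_mul, inv_mul_cancel_left]
    exact hl
  have hker : f.ker = C := by
    ext n
    rw [MonoidHom.mem_ker, mem_subgroupOf]
    show ((((n : G) : G ⧸ R) : (G ⧸ R) ⧸ Q) = 1) ↔ _
    rw [QuotientGroup.eq_one_iff]
    constructor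
    · intro h
      obtain ⟨r, hr, y, hy, e⟩ := mem_red.1 h
      have hrN : r ∈ N := by
        have := mul_mem (inv_mem (le_normalizer hy)) n.2
        rwa [e, inv_mul_cancel_left] at this
      rw [e]
      refine mul_mem (mem_centralizer_iff.2 fun z hz => H86.Abelian.mul_comm_sylow P hz hy)
        (mem_centralizer_iff.2 fun z hz => ?_)
      have h1 : r * z * r⁻¹ * z⁻¹ ∈ R := by
        rw [show r * z * r⁻¹ * z⁻¹ = r * (z * r⁻¹ * z⁻¹) by group]
        exact mul_mem hr ((inferInstance : R.Normal).conj_mem _ (inv_mem hr) z)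
      have h2 := eq_one_of_mem_core h1 (mul_mem ((mem_normalizer_iff.1 hrN z).1 hz) (inv_mem hz))
      rw [mul_inv_eq_one, mul_inv_eq_iff_eq_mul] at h2
      exact h2.symm
    · intro h
      obtain ⟨a, haP, ha1⟩ := ((P : Subgroup G).bot_or_exists_ne_one).resolve_left fun e => by
        rw [e, Subgroup.card_bot] at hq; omega
      have hc : ((n : G) : G ⧸ R) ∈ centralizer ({(a : G ⧸ R)} : Set (G ⧸ R)) :=
        mem_centralizer_singleton_iff.2 (by
          rw [← QuotientGroup.mk_mul, ← QuotientGroup.mk_mul, mem_centralizer_iff.1 h a haP])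
      have hcent := centralizer_red hfix hel hq hM (a := (a : G ⧸ R)) ⟨a, haP, rfl⟩ fun e => ha1
        (eq_one_of_mem_core ((QuotientGroup.eq_one_iff a).1 e) haP)
      rwa [hcent] at hc
  rw [eInd, relIndex, show (centralizer ((P : Subgroup G) : Set G)).subgroupOf N = C from rfl,
    ← hker, index_ker, MonoidHom.range_eq_top.2 hsurj, card_top, index_eq_card]

include hfix hel hq hM in
/-- In the normal case the quotient is commutative when the index is small. -/
theorem card_eq_of_normal [(red P : Subgroup (G ⧸ pPrimeCore 2 G)).Normal]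
    (he : eInd P = 5 ∨ eInd P = 7 ∨ eInd P = 15) :
    Nat.card (principalBlock M G) * eInd P =
      eInd P * eInd P + (Nat.card (P : Subgroup G) - 1) := by
  haveI : Fact (Nat.Prime 2) := ⟨Nat.prime_two⟩
  have hidx := index_red hfix hel hq hM
  rw [card_principal_red hM, ← hidx, ← card_red]
  refine normal_count hM (red P) (fun a ha ha1 => centralizer_red hfix hel hq hM ha ha1)
    (fun e => ?_) fun a b => ?_
  · have := card_red (P := P)
    rw [e, Subgroup.card_bot] at this
    omega
  · rw [← QuotientGroup.eq_one_iff]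
    have hcomm : ∀ x y : (G ⧸ pPrimeCore 2 G) ⧸ (red P : Subgroup (G ⧸ pPrimeCore 2 G)),
        x * y = y * x := by
      have hc : Nat.card ((G ⧸ pPrimeCore 2 G) ⧸ (red P : Subgroup (G ⧸ pPrimeCore 2 G))) = eInd P := by
        rw [← index_eq_card, hidx]
      intro x y
      rcases he with e | e | e
      · haveI : Fact (Nat.Prime 5) := ⟨Nat.prime_five⟩
        haveI := isCyclic_of_prime_card (hc.trans e)
        exact IsCyclic.commGroup.mul_comm x y
      · haveI : Fact (Nat.Prime 7) := ⟨by norm_num⟩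
        haveI := isCyclic_of_prime_card (hc.trans e)
        exact IsCyclic.commGroup.mul_comm x y
      · exact commutative_of_card_fifteen (hc.trans e) x y
    rw [QuotientGroup.mk_mul, QuotientGroup.mk_mul, QuotientGroup.mk_mul, QuotientGroup.mk_inv,
      QuotientGroup.mk_inv, hcomm (QuotientGroup.mk a) (QuotientGroup.mk b), mul_inv_cancel_right,
      mul_inv_cancel]

include hfix hel hq hM in
/-- The transitive case: as many characters as elements of the Sylow subgroup. -/
theorem card_eq_transitive (he : eInd P + 1 = Nat.card (P : Subgroup G)) :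
    Nat.card (principalBlock M G) = Nat.card (P : Subgroup G) := by
  haveI : Fact (Nat.Prime 2) := ⟨Nat.prime_two⟩
  by_cases hn : (red P : Subgroup (G ⧸ pPrimeCore 2 G)).Normal
  · have h := card_eq_of_normal hfix hel hq hM (by omega)
    refine Nat.eq_of_mul_eq_mul_right (eInd_pos (P := P)) (h.trans ?_)
    rw [← he, Nat.add_mul, one_mul, Nat.add_sub_cancel]
  · rw [card_principal_red hM, ← card_red]
    exact nonnormal_count hM (red P) (fun a ha ha1 => centralizer_red hfix hel hq hM ha ha1)
      (sq_red hel) (by rw [card_red]; exact hq) hn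

include hfix hel hq hM in
/-- The case of index five. -/
theorem card_eq_five (he : eInd P = 5) (hcard : Nat.card (P : Subgroup G) = 16) :
    Nat.card (principalBlock M G) = 8 := by
  haveI : Fact (Nat.Prime 2) := ⟨Nat.prime_two⟩
  obtain ⟨a, haP, ha1⟩ := ((P : Subgroup G).bot_or_exists_ne_one).resolve_left fun e => by
    rw [e, Subgroup.card_bot] at hq; omega
  have htop : bigM P = ⊤ := by
    by_contra htop
    have haΩ : a ∈ omega P := ⟨haP, hel a haP⟩
    have := eInd_eq hfix (stronglyEmbedded hfix htop haΩ ha1) haΩ ha1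
    rw [omega_eq hel, he, hcard] at this
    omega
  haveI : (red P : Subgroup (G ⧸ pPrimeCore 2 G)).Normal := by
    refine ⟨fun x hx g => ?_⟩
    obtain ⟨g, rfl⟩ := QuotientGroup.mk'_surjective _ g
    obtain ⟨y, hy, rfl⟩ := hx
    obtain ⟨w, hw, n, hn, rfl⟩ := (mem_bigM hfix).1 (htop ▸ mem_top g)
    rw [map_mul, show QuotientGroup.mk' (pPrimeCore 2 G) w = 1 from
      (QuotientGroup.eq_one_iff w).2 (bigW_le_core hfix hel hq hM hw), one_mul, ← map_inv,
      ← map_mul, ← map_mul]
    exact ⟨_, (mem_normalizer_iff.1 hn y).1 hy, rfl⟩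
  have h := card_eq_of_normal hfix hel hq hM (Or.inl he)
  rw [he, hcard] at h
  omega

end Cfsg.Agent.H82.FreePoint
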