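import Cfsg.Agent.H82.FreePoint.Frob
import Cfsg.Agent.H29.AbTwo.Pairs

/-!
# The signalizer closure lies in the odd core
-/

set_option autoImplicit false
set_option linter.unusedSectionVars false
set_option linter.style.haveILetI false
set_option maxHeartbeats 1000000

open scoped ComplexConjugate

namespace Cfsg.Agent.H82.FreePoint

open CharBasic BlockBasic H29.AbTwo Subgroup
open H86 (PNilAt)

universe u

variable {G : Type u} [Group G] [Finite G]

/-- A character with full sum over a subgroup has the subgroup in its kernel. -/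
theorem eq_one_of_sum_eq {H : Subgroup G} [Fintype H] (χ : IrrCharacter G)
    (h : ∑ c : H, (χ : G → ℂ) c = (Nat.card H : ℂ) * (χ : G → ℂ) 1) :
    ∀ c : H, (χ : G → ℂ) c = (χ : G → ℂ) 1 := by
  have hone : (χ : G → ℂ) 1 = (charDegree (χ : G → ℂ) : ℂ) := apply_one_eq_charDegree χ
  have hnorm : ∀ c : H, ‖(χ : G → ℂ) c‖ ≤ (charDegree (χ : G → ℂ) : ℝ) := fun c =>
    (IsChar.norm_le (IsIrr.isCharacter χ.2) (c : G)).trans_eq (by rw [hone]; simp)
  have hre : ∑ c : H, ((charDegree (χ : G → ℂ) : ℝ) - ((χ : G → ℂ) c).re) = 0 := by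
    have h' := congrArg Complex.re h
    rw [Complex.re_sum, hone] at h'
    simp only [Complex.mul_re, Complex.natCast_re, Complex.natCast_im, mul_zero, sub_zero] at h'
    rw [Finset.sum_sub_distrib, h', Finset.sum_const, Finset.card_univ, nsmul_eq_mul,
      Nat.card_eq_fintype_card, sub_self]
  have hnn : ∀ c ∈ (Finset.univ : Finset H),
      0 ≤ (charDegree (χ : G → ℂ) : ℝ) - ((χ : G → ℂ) c).re := fun c _ =>
    sub_nonneg.2 ((Complex.re_le_norm _).trans (hnorm c))
  intro c
  have hc := (Finset.sum_eq_zero_iff_of_nonneg hnn).1 hre c (Finset.mem_univ c)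
  have hd : (0 : ℝ) ≤ (charDegree (χ : G → ℂ) : ℝ) := Nat.cast_nonneg _
  have h1 : ((χ : G → ℂ) c).re = (charDegree (χ : G → ℂ) : ℝ) := by linarith
  have h2 : Complex.normSq ((χ : G → ℂ) c) ≤ (charDegree (χ : G → ℂ) : ℝ) ^ 2 := by
    rw [Complex.normSq_eq_norm_sq]
    exact pow_le_pow_left₀ (norm_nonneg _) (hnorm c) 2
  rw [Complex.normSq_apply, h1] at h2
  have h3 : ((χ : G → ℂ) c).im = 0 := by nlinarith [mul_self_nonneg ((χ : G → ℂ) c).im]
  rw [hone]
  exact Complex.ext (by simpa using h1) (by simpa using h3)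

/-- The bound for a single character. -/
theorem weight_bound {q : ℕ} (hq : q = 8 ∨ q = 16) {s d : ℤ} (hd : 0 < d)
    (hneg : s < 0 → ((q : ℤ) - 1) * (-s) + q ≤ d) (hs : s * s + 1 ≤ q) :
    (q = 8 → -(d * (s * s)) ≤ 11 * s ^ 3) ∧
    (q = 16 → -(d * (1403 * (s * s) + (if s ≤ -2 then 1952 else 0) + if s ≤ -3 then 4672 else 0)) ≤
      43493 * s ^ 3) := by
  by_cases h0 : 0 ≤ s
  · have h3 : 0 ≤ s ^ 3 := pow_nonneg h0 3
    constructor <;> intro _
    · nlinarith [mul_nonneg hd.le (mul_self_nonneg s)]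
    · rw [if_neg (by omega), if_neg (by omega)]
      nlinarith [mul_nonneg hd.le (mul_self_nonneg s)]
  have hd' := hneg (by omega)
  rcases hq with rfl | rfl <;> push_cast at hs hd'
  · have : s = -1 ∨ s = -2 := by
      have : -3 < s := by nlinarith
      omega
    refine ⟨fun _ => ?_, fun h => absurd h (by norm_num)⟩
    rcases this with rfl | rfl <;> norm_num at hd' ⊢ <;> omega
  · have : s = -1 ∨ s = -2 ∨ s = -3 := by
      have : -4 < s := by nlinarith
      omega
    refine ⟨fun h => absurd h (by norm_num), fun _ => ?_⟩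
    rcases this with rfl | rfl | rfl <;> norm_num at hd' ⊢ <;> omega

variable {P : Sylow 2 G} [IsMulCommutative (P : Subgroup G)]
variable (hfix : H86.Abelian.FreeFusion P) (hel : ∀ x ∈ (P : Subgroup G), x ^ 2 = 1)
  (hq : Nat.card (P : Subgroup G) = 8 ∨ Nat.card (P : Subgroup G) = 16)
  {M : Ideal AlgInt} (hM : IsPModular 2 M)

include hel in
theorem omega_eq : omega P = (P : Subgroup G) :=
  le_antisymm (omega_le P) fun x hx => ⟨hx, hel x hx⟩

include hfix hM in
/-- With one class of involutions a principal character is constant on the elements of even order. -/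
theorem apply_singular (hSE : IsStronglyEmbedded (bigM P)) (hel : ∀ x ∈ (P : Subgroup G), x ^ 2 = 1)
    {a : G} (ha : a ∈ (P : Subgroup G)) (ha1 : a ≠ 1) {χ : IrrCharacter G}
    (hχ : χ ∈ principalBlock M G) {g : G} (hg : 2 ∣ orderOf g) :
    (χ : G → ℂ) g = (χ : G → ℂ) a := by
  haveI : Fact (Nat.Prime 2) := ⟨Nat.prime_two⟩
  cases nonempty_fintype G
  obtain ⟨k, hk⟩ := exists_orderOf_pPart (p := 2) g
  obtain ⟨Q, hQ⟩ := (IsPGroup.of_card (G := zpowers (pPart (p := 2) g)) (n := k)
    (by rw [Nat.card_zpowers, hk])).exists_le_sylow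
  obtain ⟨d, hd⟩ := MulAction.exists_smul_eq G Q P
  set u := d * pPart (p := 2) g * d⁻¹ with hu
  have huP : u ∈ (P : Subgroup G) := by
    rw [← hd]
    exact (Fusion.mem_sylow_smul).2 (by
      rw [show d⁻¹ * u * d = pPart (p := 2) g by rw [hu]; group]; exact hQ (mem_zpowers _))
  have hu1 : u ≠ 1 := fun e => (pPart_eq_one_iff g).1 (conj_eq_one_iff.1 e) hg
  have hc : d * pReg (p := 2) g * d⁻¹ ∈ centralizer ({u} : Set G) := by
    refine mem_centralizer_singleton_iff.2 ?_
    rw [hu]
    calc d * pReg (p := 2) g * d⁻¹ * (d * pPart (p := 2) g * d⁻¹)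
        = d * (pReg (p := 2) g * pPart (p := 2) g) * d⁻¹ := by group
      _ = d * (pPart (p := 2) g * pReg (p := 2) g) * d⁻¹ := by rw [(commute_pPart_pReg g).eq]
      _ = _ := by group
  have h1 := H86.principal_apply_mul hM (H86.Abelian.exists_orderOf P ⟨u, huP⟩)
    (H86.Abelian.pNilAt_of_mem P hfix huP hu1) hχ (c := ⟨_, hc⟩) (by
      rw [Subgroup.orderOf_mk, ← MulAut.conj_apply, MulEquiv.orderOf_eq]
      exact not_dvd_orderOf_pReg g)
  rw [show u * (d * pReg (p := 2) g * d⁻¹) = d * g * d⁻¹ by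
    rw [hu]; conv_rhs => rw [← pPart_mul_pReg (p := 2) g]
    group, IsIrr.isClassFunction χ.2] at h1
  obtain ⟨c, hc'⟩ := isConj_iff.1 (H39.se_involutions_conj hSE
    (orderOf_eq_prime (hel a ha) ha1) (orderOf_eq_prime (hel u huP) hu1))
  refine h1.trans ?_
  show (χ : G → ℂ) u = (χ : G → ℂ) a
  rw [← hc', IsIrr.isClassFunction χ.2]

include hfix hel hq hM in
/-- The signalizer closure lies in the odd core. -/
theorem bigW_le_core : bigW P ≤ pPrimeCore 2 G := by
  classical
  haveI : Fact (Nat.Prime 2) := ⟨Nat.prime_two⟩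
  cases nonempty_fintype G
  have hrank : 8 ≤ Nat.card (omega P) := by rw [omega_eq hel]; omega
  obtain ⟨hWodd, -⟩ := closure_spec hfix hrank
  have hWcop : (Nat.card (bigW P)).Coprime 2 := Nat.coprime_two_right.2 hWodd
  have hWnorm : bigM P ≤ normalizer (bigW P : Set G) :=
    sup_le le_normalizer fun _ hn => conj_mem_bigW hfix hn
  by_cases htop : bigM P = ⊤
  · haveI : (bigW P).Normal := normalizer_eq_top_iff.1 (top_le_iff.1 (htop ▸ hWnorm))
    exact Cores.le_pPrimeCore hWcop
  by_contra hWO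
  obtain ⟨a, haP, ha1⟩ := (Subgroup.bot_or_exists_ne_one (P : Subgroup G)).resolve_left fun e => by
    rw [e, Subgroup.card_bot] at hq; omega
  have haΩ : a ∈ omega P := ⟨haP, hel a haP⟩
  have hao : orderOf a = 2 := orderOf_omega haΩ ha1
  have hSE := stronglyEmbedded hfix htop haΩ ha1
  set q := Nat.card (P : Subgroup G) with hqdef
  have he : eInd P + 1 = q := by rw [eInd_eq hfix hSE haΩ ha1, omega_eq hel]
  choose s hs using fun χ : IrrCharacter G => exists_int χ hao
  let d : IrrCharacter G → ℤ := fun χ => (charDegree (χ : G → ℂ) : ℤ)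
  have hd : ∀ χ : IrrCharacter G, (χ : G → ℂ) 1 = (d χ : ℂ) := fun χ => by
    rw [apply_one_eq_charDegree]; simp [d]
  have hdpos : ∀ χ, 0 < d χ := fun χ => by
    have := charDegree_pos χ
    show (0 : ℤ) < (charDegree (χ : G → ℂ) : ℤ)
    omega
  have hval : ∀ χ ∈ principalBlock M G, ∀ g : G, 2 ∣ orderOf g → (χ : G → ℂ) g = (s χ : ℂ) :=
    fun χ hχ g hg => (apply_singular hfix hM hSE hel haP ha1 hχ hg).trans (hs χ)
  -- negative values need a large degree
  have hneg : ∀ χ ∈ principalBlock M G, s χ < 0 → ((q : ℤ) - 1) * (-s χ) + q ≤ d χ := by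
    intro χ hχ hlt
    set W := bigW P
    set K := bigK P
    haveI := Fintype.ofFinite W
    haveI := Fintype.ofFinite (P : Subgroup G)
    haveI := Fintype.ofFinite K
    obtain ⟨f, hf⟩ := exists_sum_subgroup W χ
    obtain ⟨N, hN⟩ := exists_sum_subgroup (P : Subgroup G) χ
    obtain ⟨N', hN'⟩ := exists_sum_subgroup K χ
    have hWK : W ≤ K := le_sup_left
    have hKc : Nat.card K = Nat.card W * q := card_bigK hfix hrank
    have hKnorm : K ≤ normalizer (W : Set G) :=
      le_trans (sup_le bigW_le_bigM sylow_le_bigM) hWnorm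
    have hsing : ∀ c : K, (c : G) ∉ W → 2 ∣ orderOf (c : G) := by
      intro c hcW
      by_contra hodd
      apply hcW
      haveI : (W.subgroupOf K).Normal := normal_subgroupOf_of_le_normalizer hKnorm
      have h1 : (c : G) ^ q ∈ W := by
        have h := Subgroup.pow_index_mem (W.subgroupOf K) c
        have hi : (W.subgroupOf K).index = q := by
          have h2 := (W.subgroupOf K).card_mul_index
          rw [Nat.card_congr (subgroupOfEquivOfLe hWK).toEquiv, hKc] at h2
          exact Nat.eq_of_mul_eq_mul_left Nat.card_pos h2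
        rw [hi, mem_subgroupOf, Subgroup.coe_pow] at h
        exact h
      obtain ⟨j, hj⟩ : ∃ j, q = 2 ^ j := IsPGroup.iff_card.1 P.isPGroup'
      have hcop : q.Coprime (orderOf (c : G)) := by
        rw [hj]; exact Nat.Coprime.pow_left j (Nat.prime_two.coprime_iff_not_dvd.2 hodd)
      obtain ⟨m, hm⟩ := exists_pow_eq_self_of_coprime hcop
      rw [← hm]
      exact W.pow_mem h1 m
    have e1 : ((q : ℤ) - 1) * s χ + f = (q : ℤ) * N' := by
      have hsplit : ∑ c : K, (χ : G → ℂ) c = (Nat.card W : ℂ) * f +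
          ((Nat.card K : ℂ) - Nat.card W) * s χ := by
        have : ∀ c : K, (χ : G → ℂ) c = (s χ : ℂ) +
            (if (c : G) ∈ W then (χ : G → ℂ) c - s χ else 0) := by
          intro c
          by_cases hc : (c : G) ∈ W
          · rw [if_pos hc]; ring
          · rw [if_neg hc, add_zero, hval χ hχ _ (hsing c hc)]
        rw [Finset.sum_congr rfl fun c _ => this c, Finset.sum_add_distrib, Finset.sum_const,
          ← Finset.sum_filter, Finset.card_univ, ← Nat.card_eq_fintype_card, nsmul_eq_mul]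
        have hb : ∑ c ∈ Finset.univ.filter (fun c : K => (c : G) ∈ W),
              ((χ : G → ℂ) c - s χ) = ∑ w : W, ((χ : G → ℂ) w - s χ) :=
          Finset.sum_bij' (fun c hc => (⟨(c : G), (Finset.mem_filter.1 hc).2⟩ : W))
            (fun w _ => (⟨(w : G), hWK w.2⟩ : K))
            (fun _ _ => Finset.mem_univ _) (fun w _ => Finset.mem_filter.2 ⟨Finset.mem_univ _, w.2⟩)
            (fun _ _ => rfl) (fun _ _ => rfl) (fun _ _ => rfl)
        rw [hb]
        rw [Finset.sum_sub_distrib, hf, Finset.sum_const, Finset.card_univ,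
          ← Nat.card_eq_fintype_card, nsmul_eq_mul]
        ring
      rw [hN', hKc] at hsplit
      push_cast at hsplit
      apply Int.cast_injective (α := ℂ)
      refine mul_left_cancel₀ (Nat.cast_ne_zero.2 (Nat.card_pos (α := W)).ne') ?_
      push_cast
      linear_combination -hsplit
    have e2 : d χ + ((q : ℤ) - 1) * s χ = (q : ℤ) * N := by
      rw [← Finset.sum_erase_add _ _ (Finset.mem_univ (1 : (P : Subgroup G))),
        Finset.sum_congr rfl (g := fun _ => (s χ : ℂ)) fun y hy => hval χ hχ _ (by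
          rw [orderOf_eq_prime (hel y y.2) fun e => Finset.ne_of_mem_erase hy (Subtype.ext e)]),
        Finset.sum_const, Finset.card_erase_of_mem (Finset.mem_univ _), Finset.card_univ,
        ← Nat.card_eq_fintype_card, ← hqdef, OneMemClass.coe_one, hd, nsmul_eq_mul] at hN
      apply Int.cast_injective (α := ℂ)
      push_cast [Nat.cast_sub (show 1 ≤ q by omega)] at hN ⊢
      linear_combination hN
    have hfle : (f : ℤ) ≤ d χ := by
      have hle : ‖∑ c : W, (χ : G → ℂ) c‖ ≤ ∑ _c : W, (d χ : ℝ) :=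
        (norm_sum_le _ _).trans (Finset.sum_le_sum fun c _ =>
          (IsChar.norm_le (IsIrr.isCharacter χ.2) (c : G)).trans_eq (by
            rw [hd, Complex.norm_intCast, abs_of_pos (by exact_mod_cast hdpos χ)]))
      rw [hf, Finset.sum_const, Finset.card_univ, ← Nat.card_eq_fintype_card, nsmul_eq_mul,
        norm_mul, Complex.norm_natCast, Complex.norm_natCast] at hle
      exact_mod_cast le_of_mul_le_mul_left hle (by exact_mod_cast (Nat.card_pos (α := W)))
    have hfne : (f : ℤ) ≠ d χ := by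
      intro e
      apply hWO
      have hker := eq_one_of_sum_eq χ (H := W) (by rw [hf, hd, ← e, Int.cast_natCast])
      obtain ⟨K0, hK0n, hK0, -⟩ := IsChar.exists_kernel (IsIrr.isCharacter χ.2)
      have hodd : (Nat.card K0).Coprime 2 := by
        rw [Nat.coprime_two_right, Nat.odd_iff]
        by_contra hev
        obtain ⟨t, ht⟩ := exists_prime_orderOf_dvd_card' (G := K0) 2 (by omega)
        have h1 := hval χ hχ (t : G) (by rw [Subgroup.orderOf_coe, ht])
        rw [(hK0 _).1 t.2, hd] at h1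
        have := Int.cast_injective h1
        have := hdpos χ
        omega
      intro w hw
      exact Cores.le_pPrimeCore (hN := hK0n) hodd ((hK0 w).2 (hker ⟨w, hw⟩))
    have hlt' : (f : ℤ) < d χ := lt_of_le_of_ne hfle hfne
    have hN'' : (q : ℤ) * N' + q ≤ (q : ℤ) * N := by
      have : (N' : ℤ) < N := by
        by_contra hle
        have : (q : ℤ) * N ≤ (q : ℤ) * N' := mul_le_mul_of_nonneg_left (by omega) (by positivity)
        linarith
      have : (q : ℤ) * (N' + 1) ≤ (q : ℤ) * N := mul_le_mul_of_nonneg_left (by omega) (by positivity)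
      linarith
    have hN0 : (0 : ℤ) ≤ (q : ℤ) * N' := by positivity
    linarith
  -- the squares
  set B := Finset.univ.filter fun χ : IrrCharacter G => χ ∈ principalBlock M G with hB
  have htrivB : (trivialIrr : IrrCharacter G) ∈ B :=
    Finset.mem_filter.2 ⟨Finset.mem_univ _, sameBlock_refl hM _⟩
  have hstriv : s (trivialIrr : IrrCharacter G) = 1 := by
    apply Int.cast_injective (α := ℂ)
    rw [← hs, Int.cast_one]; rfl
  have hdtriv : d (trivialIrr : IrrCharacter G) = 1 := by
    apply Int.cast_injective (α := ℂ)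
    rw [← hd, Int.cast_one]; rfl
  have hn := H86.Abelian.pNilAt_of_mem P hfix haP ha1
  have hfacC : 2 ^ (Nat.card (centralizer ({a} : Set G))).factorization 2 = q := by
    rw [Nine.factorization_centralizer P haP, hqdef, P.card_eq_multiplicity]
  have hsq : ∑ χ ∈ B.erase trivialIrr, s χ * s χ + 1 = (q : ℤ) := by
    rw [show ∑ χ ∈ B.erase trivialIrr, s χ * s χ + 1 = ∑ χ ∈ B, s χ * s χ from by
      rw [← Finset.sum_erase_add B _ htrivB, hstriv, mul_one]]
    apply Int.cast_injective (α := ℂ)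
    have h := H86.sum_sq_principal hM ⟨1, by rw [hao, pow_one]⟩ hn
    rw [← Nat.cast_pow, hfacC, blockKernel, finsum_mem_eq_sum_ite, ← Finset.sum_filter, ← hB] at h
    push_cast
    rw [← h]
    exact Finset.sum_congr rfl fun χ _ => by rw [hs χ, map_intCast]
  have hsle : ∀ χ ∈ B.erase trivialIrr, s χ * s χ + 1 ≤ (q : ℤ) := fun χ hχ => by
    rw [← hsq]
    have := Finset.single_le_sum (f := fun χ => s χ * s χ) (fun χ _ => mul_self_nonneg _) hχ
    linarith
  set T : ℝ := ∑ χ ∈ B, (s χ : ℝ) ^ 3 / (d χ : ℝ) with hT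
  have hlow : (q = 8 → (4 / 11 : ℝ) ≤ T) ∧ (q = 16 → (13872 / 43493 : ℝ) ≤ T) := by
    have hterm : ∀ χ ∈ B.erase trivialIrr,
        (q = 8 → -((s χ * s χ : ℤ) : ℝ) ≤ 11 * ((s χ : ℝ) ^ 3 / (d χ : ℝ))) ∧
        (q = 16 → -((1403 * (s χ * s χ) + (if s χ ≤ -2 then 1952 else 0) +
          if s χ ≤ -3 then 4672 else 0 : ℤ) : ℝ) ≤ 43493 * ((s χ : ℝ) ^ 3 / (d χ : ℝ))) := by
      intro χ hχ
      have hχB := (Finset.mem_filter.1 (Finset.mem_of_mem_erase hχ)).2
      obtain ⟨w1, w2⟩ := weight_bound hq (hdpos χ) (hneg χ hχB) (hsle χ hχ)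
      have hdR : (0 : ℝ) < (d χ : ℝ) := by exact_mod_cast hdpos χ
      constructor <;> intro hq'
      · rw [← mul_div_assoc, le_div_iff₀ hdR]
        calc -((s χ * s χ : ℤ) : ℝ) * (d χ : ℝ) = ((-(d χ * (s χ * s χ)) : ℤ) : ℝ) := by
              push_cast; ring
          _ ≤ ((11 * s χ ^ 3 : ℤ) : ℝ) := Int.cast_le.2 (w1 hq')
          _ = _ := by push_cast; ring
      · rw [← mul_div_assoc, le_div_iff₀ hdR]
        calc -((1403 * (s χ * s χ) + (if s χ ≤ -2 then 1952 else 0) +
              if s χ ≤ -3 then 4672 else 0 : ℤ) : ℝ) * (d χ : ℝ)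
            = ((-(d χ * (1403 * (s χ * s χ) + (if s χ ≤ -2 then 1952 else 0) +
              if s χ ≤ -3 then 4672 else 0)) : ℤ) : ℝ) := by push_cast; ring
          _ ≤ ((43493 * s χ ^ 3 : ℤ) : ℝ) := Int.cast_le.2 (w2 hq')
          _ = _ := by push_cast; ring
    rw [hT, ← Finset.sum_erase_add B _ htrivB, hstriv, hdtriv]
    constructor <;> intro hq'
    · have h := Finset.sum_le_sum fun χ hχ => (hterm χ hχ).1 hq'
      rw [← Finset.mul_sum, Finset.sum_neg_distrib, ← Int.cast_sum] at h
      have h2 : ((∑ χ ∈ B.erase trivialIrr, s χ * s χ : ℤ) : ℝ) = 7 := by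
        have : ∑ χ ∈ B.erase trivialIrr, s χ * s χ = 7 := by omega
        rw [this]; norm_num
      rw [h2] at h
      push_cast
      linarith
    · have h := Finset.sum_le_sum fun χ hχ => (hterm χ hχ).2 hq'
      rw [← Finset.mul_sum, Finset.sum_neg_distrib, ← Int.cast_sum] at h
      have h2 : ((∑ χ ∈ B.erase trivialIrr, (1403 * (s χ * s χ) + (if s χ ≤ -2 then 1952 else 0) +
          if s χ ≤ -3 then 4672 else 0) : ℤ) : ℝ) ≤ 29621 := by
        have h45 : ∑ χ ∈ B.erase trivialIrr, ((4 : ℤ) * (if s χ ≤ -2 then 1 else 0) +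
            5 * if s χ ≤ -3 then 1 else 0) ≤ ∑ χ ∈ B.erase trivialIrr, s χ * s χ :=
          Finset.sum_le_sum fun χ _ => by split_ifs <;> nlinarith
        have hmono : ∑ χ ∈ B.erase trivialIrr, (if s χ ≤ -3 then (1 : ℤ) else 0) ≤
            ∑ χ ∈ B.erase trivialIrr, if s χ ≤ -2 then (1 : ℤ) else 0 :=
          Finset.sum_le_sum fun χ _ => by split_ifs <;> omega
        have h0 : (0 : ℤ) ≤ ∑ χ ∈ B.erase trivialIrr, if s χ ≤ -3 then (1 : ℤ) else 0 :=
          Finset.sum_nonneg fun χ _ => by split_ifs <;> omega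
        have hrw : ∀ χ, (1403 * (s χ * s χ) + (if s χ ≤ -2 then 1952 else 0) +
            if s χ ≤ -3 then 4672 else 0 : ℤ) = 1403 * (s χ * s χ) +
              1952 * (if s χ ≤ -2 then 1 else 0) + 4672 * if s χ ≤ -3 then 1 else 0 := fun χ => by
          split_ifs <;> ring
        rw [Finset.sum_congr rfl fun χ _ => hrw χ]
        simp only [Finset.sum_add_distrib, ← Finset.mul_sum] at h45 ⊢
        have : 1403 * ∑ χ ∈ B.erase trivialIrr, s χ * s χ +
              1952 * (∑ χ ∈ B.erase trivialIrr, if s χ ≤ -2 then (1 : ℤ) else 0) +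
              4672 * (∑ χ ∈ B.erase trivialIrr, if s χ ≤ -3 then (1 : ℤ) else 0) ≤ 29621 := by
          have he1 : (∑ χ ∈ B.erase trivialIrr, if s χ ≤ -3 then (1 : ℤ) else 0) = 0 ∨
              (∑ χ ∈ B.erase trivialIrr, if s χ ≤ -3 then (1 : ℤ) else 0) = 1 := by omega
          rcases he1 with h1 | h1 <;> omega
        exact_mod_cast this
      push_cast at h h2 ⊢
      linarith
  -- the class equation
  have hnp := npairs_mul_le hfix hrank hSE haΩ ha1 haΩ ha1
  have heq := card_mul_npairs hM (x := a) ⟨1, by rw [hao, pow_one]⟩ hn a a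
  have hcore : Nat.card (pPrimeCore 2 (centralizer ({a} : Set G))) = Nat.card (oddAt a) :=
    (Nat.card_congr ((pPrimeCore 2 (centralizer ({a} : Set G))).equivMapOfInjective _
      (centralizer ({a} : Set G)).subtype_injective).toEquiv)
  set n := (bigM P).index with hn'
  set idx := (centralizer ({a} : Set G)).index with hidx
  set kA := Nat.card (oddAt a) with hkA
  set np := npairs 2 a a a with hnpdef
  have hW0 : 0 < Nat.card (bigW P) := Nat.card_pos
  have hidxk : idx * kA = n * eInd P * Nat.card (bigW P) := by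
    have h1 := (centralizer ({a} : Set G)).card_mul_index
    have h2 := (bigM P).card_mul_index
    rw [card_centralizer hfix haP ha1, ← hkA, ← hqdef, ← hidx] at h1
    rw [card_bigM hfix hrank, card_bigK hfix hrank, ← hqdef, ← hn'] at h2
    refine Nat.eq_of_mul_eq_mul_right (show 0 < q by omega) ?_
    linarith
  have hST : ((q * np : ℕ) : ℝ) = (idx : ℝ) * T := by
    apply Complex.ofReal_injective
    have hG : (Nat.card G : ℂ) = (idx : ℂ) * (kA : ℂ) * (q : ℂ) := by
      have h1 := (centralizer ({a} : Set G)).card_mul_index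
      rw [card_centralizer hfix haP ha1, ← hkA, ← hqdef, ← hidx] at h1
      rw [← h1]; push_cast; ring
    rw [hcore, ← Finset.sum_filter, ← hB, hG] at heq
    have hI0 : (idx : ℂ) * (kA : ℂ) ≠ 0 :=
      mul_ne_zero (Nat.cast_ne_zero.2 index_ne_zero_of_finite) (Nat.cast_ne_zero.2 Nat.card_pos.ne')
    refine mul_left_cancel₀ hI0 ?_
    rw [hT]
    push_cast
    rw [show ∑ χ ∈ B, ((s χ : ℂ)) ^ 3 / (d χ : ℂ) = ∑ χ ∈ B, conj ((χ : G → ℂ) a) *
      conj ((χ : G → ℂ) a) * (χ : G → ℂ) a / (χ : G → ℂ) 1 from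
      Finset.sum_congr rfl fun χ _ => by rw [hs χ, hd χ, map_intCast]; ring]
    linear_combination heq
  have hmain : ((n * eInd P : ℕ) : ℝ) * T ≤ (q : ℝ) * ((q : ℝ) - 2) := by
    have h1 : ((q * (np * kA) + q * Nat.card (bigW P) : ℕ) : ℝ) ≤
        ((q * (eInd P * Nat.card (bigW P)) : ℕ) : ℝ) := by
      rw [← Nat.mul_add]
      exact_mod_cast Nat.mul_le_mul_left q hnp
    refine le_of_mul_le_mul_right ?_ (show (0 : ℝ) < (Nat.card (bigW P) : ℝ) by exact_mod_cast hW0)
    have h2 : ((idx * kA : ℕ) : ℝ) = ((n * eInd P * Nat.card (bigW P) : ℕ) : ℝ) := by rw [hidxk]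
    have h3 : ((eInd P : ℕ) : ℝ) + 1 = (q : ℝ) := by exact_mod_cast he
    push_cast at h1 h2 hST ⊢
    calc (n : ℝ) * (eInd P : ℝ) * T * (Nat.card (bigW P) : ℝ)
        = (idx : ℝ) * T * (kA : ℝ) := by
          rw [show (idx : ℝ) * T * (kA : ℝ) = (idx : ℝ) * (kA : ℝ) * T by ring, h2]; ring
      _ = (q : ℝ) * (np : ℝ) * (kA : ℝ) := by rw [← hST]
      _ ≤ _ := by rw [← h3] at h1 ⊢; linarith
  have hbound : n < 3 * q + 1 := by
    by_contra hge
    have hge' : ((3 * q + 1 : ℕ) : ℝ) ≤ (n : ℝ) := by exact_mod_cast not_lt.1 hge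
    rcases hq with hq' | hq'
    · have hT' := hlow.1 hq'
      rw [show eInd P = 7 by omega, hq'] at hmain
      push_cast [hq'] at hmain hge'
      nlinarith
    · have hT' := hlow.2 hq'
      rw [show eInd P = 15 by omega, hq'] at hmain
      push_cast [hq'] at hmain hge'
      nlinarith
  have hne0 : n ≠ 0 := index_ne_zero_of_finite
  -- the short orbits contain the closure
  have hall : ∀ g : G, g ∉ bigM P → bigW P ≤ (bigM P).map (MulAut.conj g).toMonoidHom := by
    intro g hg
    set L := (bigM P).map (MulAut.conj g).toMonoidHom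
    have hDodd : Odd (Nat.card ↥(bigM P ⊓ L)) := hSE.2.2 g hg
    set D := bigM P ⊓ L with hD
    have hmemL : ∀ y : G, y ∈ L ↔ g⁻¹ * y * g ∈ bigM P := by
      intro y
      constructor
      · rintro ⟨z, hz, rfl⟩
        simpa [mul_assoc] using hz
      · exact fun h => ⟨g⁻¹ * y * g, h, by simp [mul_assoc]⟩
    let f : bigM P ⧸ L.subgroupOf (bigM P) → G ⧸ bigM P := fun x =>
      Quotient.liftOn' x (fun m => (QuotientGroup.mk ((m : G) * g) : G ⧸ bigM P)) fun m m' h => by
        refine QuotientGroup.eq.2 ?_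
        have := (hmemL _).1 (mem_subgroupOf.1 (QuotientGroup.leftRel_apply.1 h))
        simpa [mul_assoc] using this
    have hinj : Function.Injective f := fun x x' h => by
      induction x using Quotient.inductionOn'
      induction x' using Quotient.inductionOn'
      refine Quotient.sound' (QuotientGroup.leftRel_apply.2 (mem_subgroupOf.2 ((hmemL _).2 ?_)))
      have := QuotientGroup.eq.1 h
      simpa [mul_assoc] using this
    have hmiss : ¬ Function.Surjective f := fun hs => by
      obtain ⟨x, hx⟩ := hs (QuotientGroup.mk (1 : G))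
      induction x using Quotient.inductionOn'
      rename_i m
      have h1 : ((m : G) * g)⁻¹ * 1 ∈ bigM P := QuotientGroup.eq.1 hx
      rw [mul_one, inv_mem_iff] at h1
      exact hg (by simpa using mul_mem (inv_mem m.2) h1)
    have hlt : D.relIndex (bigM P) < n := by
      rw [hD, inf_relIndex_left, hn', relIndex, Subgroup.index_eq_card, Subgroup.index_eq_card]
      exact lt_of_le_of_ne (Nat.card_le_card_of_injective f hinj)
        fun e => hmiss ((Nat.bijective_iff_injective_and_card f).2 ⟨hinj, e⟩).2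
    have hDM : D ≤ bigM P := inf_le_left
    have hprod : Nat.card D * D.relIndex (bigM P) = eInd P * Nat.card (bigW P) * q := by
      rw [relIndex, ← Nat.card_congr (subgroupOfEquivOfLe hDM).toEquiv, card_mul_index,
        card_bigM hfix hrank, card_bigK hfix hrank, mul_assoc]
    set r := D.relIndex (bigM P)
    obtain ⟨j, hj⟩ : ∃ j, q = 2 ^ j := IsPGroup.iff_card.1 P.isPGroup'
    have hcopq : ∀ m : ℕ, Odd m → q.Coprime m := fun m hm => by
      rw [hj]; exact Nat.Coprime.pow_left j (Nat.coprime_two_left.2 hm)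
    obtain ⟨t, ht⟩ : q ∣ r := (hcopq _ hDodd).dvd_of_dvd_mul_left (Dvd.intro_left _ hprod.symm)
    have hDt : Nat.card D * t = eInd P * Nat.card (bigW P) := by
      refine Nat.eq_of_mul_eq_mul_right (show 0 < q by omega) ?_
      rw [← hprod, ht]; ring
    have heW : Odd (eInd P * Nat.card (bigW P)) := odd_eInd.mul hWodd
    have ht1 : t = 1 := by
      have hto : Odd t := heW.of_dvd_nat (Dvd.intro_left _ hDt)
      have ht3 : t < 3 := by
        by_contra h3
        have : q * 3 ≤ q * t := Nat.mul_le_mul_left q (by omega)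
        omega
      rw [Nat.odd_iff] at hto
      omega
    rw [ht1, mul_one] at hDt
    set E := bigW P ⊔ D
    have hEM : E ≤ bigM P := sup_le bigW_le_bigM hDM
    have hEodd : Odd (Nat.card E) := by
      rw [Nat.odd_iff]
      by_contra hev
      obtain ⟨x, hx⟩ := exists_prime_orderOf_dvd_card' (G := E) 2 (by omega)
      have hxo : orderOf (x : G) = 2 := by rw [Subgroup.orderOf_coe, hx]
      have hmem := x.2
      have hDN : D ≤ normalizer (bigW P : Set G) := hDM.trans hWnorm
      rw [← SetLike.mem_coe, coe_mul_of_right_le_normalizer_left _ _ hDN] at hmem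
      obtain ⟨w, hw, y, hy, hwy⟩ := hmem
      have hyy : y ^ 2 ∈ bigW P := by
        have h1 : y * w * y⁻¹ ∈ bigW P := (mem_normalizer_iff.1 (hDN hy) w).1 hw
        have h2 : w * y * (w * y) = 1 := by
          rw [← pow_two]; show (fun a b : G => a * b) w y ^ 2 = 1
          rw [hwy, ← hxo]; exact pow_orderOf_eq_one _
        have h3 : y ^ 2 = (w * (y * w * y⁻¹))⁻¹ * (w * y * (w * y)) := by rw [pow_two]; group
        rw [h3, h2, mul_one]
        exact inv_mem (mul_mem hw h1)
      obtain ⟨m, hm⟩ := exists_pow_eq_self_of_coprime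
        (Nat.coprime_two_left.2 (odd_orderOf_of_mem hDodd hy))
      have hyW : y ∈ bigW P := hm ▸ pow_mem hyy m
      have h := odd_orderOf_of_mem hWodd (mul_mem hw hyW)
      rw [show w * y = (x : G) from hwy, hxo] at h
      exact absurd h (by decide)
    have hED : E = D := by
      refine (eq_of_le_of_card_ge le_sup_right ?_).symm
      refine Nat.le_of_dvd Nat.card_pos ?_
      rw [hDt]
      refine (hcopq _ hEodd).symm.dvd_of_dvd_mul_right ?_
      rw [mul_assoc, ← card_bigK hfix hrank, ← card_bigM hfix hrank]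
      exact card_dvd_of_le hEM
    exact (le_sup_left : bigW P ≤ E).trans (hED.le.trans inf_le_right)
  apply hWO
  have hWcore : bigW P ≤ (bigM P).normalCore := by
    intro w hw g
    by_cases hg : g⁻¹ ∈ bigM P
    · have hg' : g ∈ bigM P := inv_mem_iff.1 hg
      exact mul_mem (mul_mem hg' (bigW_le_bigM hw)) hg
    · obtain ⟨z, hz, hzw⟩ := mem_map.1 (hall g⁻¹ hg hw)
      have : g * w * g⁻¹ = z := by
        rw [← hzw]; simp [mul_assoc]
      rw [this]; exact hz
  refine hWcore.trans (Cores.le_pPrimeCore (Nat.coprime_two_right.2 (Nat.odd_iff.2 ?_)))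
  by_contra hev
  obtain ⟨x, hx⟩ := exists_prime_orderOf_dvd_card' (G := (bigM P).normalCore) 2 (by omega)
  obtain ⟨g, hg⟩ : ∃ g, g ∉ bigM P := by
    by_contra h
    push Not at h
    exact htop (eq_top_iff.2 fun y _ => h y)
  have hxD : (x : G) ∈ bigM P ⊓ (bigM P).map (MulAut.conj g).toMonoidHom :=
    ⟨normalCore_le _ x.2, g⁻¹ * (x : G) * g, by
      have := x.2 g⁻¹
      simpa using this, by simp [mul_assoc]⟩
  have hodd := odd_orderOf_of_mem (hSE.2.2 g hg) hxD
  rw [Subgroup.orderOf_coe, hx] at hodd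
  exact absurd hodd (by decide)

end Cfsg.Agent.H82.FreePoint
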